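import Cfsg.Agent.SchurTheory.Covers

/-!
A bound on the multiplier from a central extension whose derived subgroup has no nontrivial stem
extensions: the kernels of all stem extensions are images of the kernel in the derived subgroup.
-/

set_option autoImplicit false

namespace CfsgLib.Schur

open CfsgLib.SchurTheory
open scoped commutatorElement

universe u

variable {E G : Type u} [Group E] [Group G]

/-- The derived subgroup of a central extension of a perfect group is perfect. -/
theorem commutator_self_of_central (τ : E →* G) (hτ : Function.Surjective τ)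
    (hc : τ.ker ≤ Subgroup.center E) (hG : Group.IsPerfect G) :
    ⁅commutator E, commutator E⁆ = commutator E := by
  refine le_antisymm (Subgroup.commutator_mono le_top le_top) ?_
  have hm : (commutator E).map τ = ⊤ := by
    rw [commutator_def, Subgroup.map_commutator, Subgroup.map_top_of_surjective _ hτ,
      ← commutator_def]
    exact Group.isPerfect_def.mp hG
  conv_lhs => rw [commutator_def]
  rw [Subgroup.commutator_le]
  intro x _ y _
  obtain ⟨c, hcc, ec⟩ := hm.ge (Subgroup.mem_top (τ x))
  obtain ⟨d, hdc, ed⟩ := hm.ge (Subgroup.mem_top (τ y))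
  have h1 : c⁻¹ * x ∈ Subgroup.center E :=
    hc (by rw [MonoidHom.mem_ker, map_mul, map_inv, ec, inv_mul_cancel])
  have h2 : d⁻¹ * y ∈ Subgroup.center E :=
    hc (by rw [MonoidHom.mem_ker, map_mul, map_inv, ed, inv_mul_cancel])
  rw [← mul_inv_cancel_left c x, ← mul_inv_cancel_left d y, commutatorElement_mul_mem_center h1 h2]
  exact Subgroup.commutator_mem_commutator hcc hdc

/-- The restriction to the derived subgroup is a stem extension. -/
theorem isStemExtension_derived (τ : E →* G) (hτ : Function.Surjective τ)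
    (hc : τ.ker ≤ Subgroup.center E) (hG : Group.IsPerfect G) :
    Cfsg.IsStemExtension (τ.comp (commutator E).subtype) := by
  refine ⟨?_, ?_, ?_⟩
  · intro g
    have hm : (commutator E).map τ = ⊤ := by
      rw [commutator_def, Subgroup.map_commutator, Subgroup.map_top_of_surjective _ hτ,
        ← commutator_def]
      exact Group.isPerfect_def.mp hG
    obtain ⟨c, hc', e⟩ := hm.ge (Subgroup.mem_top g)
    exact ⟨⟨c, hc'⟩, e⟩
  · intro x hx
    rw [Subgroup.mem_center_iff]
    exact fun y => Subtype.ext (Subgroup.mem_center_iff.1 (hc hx) y.1)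
  · intro x _
    have : (commutator (commutator E)).map (commutator E).subtype = commutator E := by
      rw [commutator_def (commutator E), Subgroup.map_commutator, ← MonoidHom.range_eq_map,
        Subgroup.range_subtype]
      exact commutator_self_of_central τ hτ hc hG
    obtain ⟨y, hy, e⟩ := this.ge x.2
    rwa [show x = y from Subtype.ext e.symm]

/-- If the derived subgroup of a central extension of a perfect group has no nontrivial stem
extension, then every stem extension has as kernel an image of the kernel in that subgroup. -/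
theorem exists_ker_surjective [Finite E] (τ : E →* G) (hτ : Function.Surjective τ)
    (hc : τ.ker ≤ Subgroup.center E) (hG : Group.IsPerfect G)
    (hno : ∀ (Δ : Type u) [Group Δ] [Finite Δ] (ρ : Δ →* commutator E),
      Cfsg.IsStemExtension ρ → ρ.ker = ⊥)
    {Γ : Type u} [Group Γ] [Finite Γ] (σ : Γ →* G) (hσ : Cfsg.IsStemExtension σ) :
    ∃ π : (τ.comp (commutator E).subtype).ker →* σ.ker, Function.Surjective π := by
  let Δ : Subgroup (Γ × E) :=
    (σ.comp (MonoidHom.fst Γ E)).eqLocus (τ.comp (MonoidHom.snd Γ E))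
  let p1 : Δ →* Γ := (MonoidHom.fst Γ E).comp Δ.subtype
  let p2 : Δ →* E := (MonoidHom.snd Γ E).comp Δ.subtype
  have hp1 : Function.Surjective p1 := fun g => by
    obtain ⟨e, he⟩ := hτ (σ g)
    exact ⟨⟨(g, e), he.symm⟩, rfl⟩
  have hp2 : Function.Surjective p2 := fun e => by
    obtain ⟨g, hg⟩ := hσ.1 (τ e)
    exact ⟨⟨(g, e), hg⟩, rfl⟩
  have hm1 : (commutator Δ).map p1 = ⊤ := by
    rw [commutator_def, Subgroup.map_commutator, Subgroup.map_top_of_surjective _ hp1,
      ← commutator_def]
    exact Group.isPerfect_def.mp (isPerfect_of_stem σ hσ hG)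
  have hm2 : (commutator Δ).map p2 = commutator E := by
    rw [commutator_def, Subgroup.map_commutator, Subgroup.map_top_of_surjective _ hp2,
      ← commutator_def]
  have hk1 : p1.ker ≤ Subgroup.center Δ := by
    intro x hx
    rw [Subgroup.mem_center_iff]
    intro w
    have hx1 : x.1.1 = 1 := hx
    have hxt : τ x.1.2 = 1 := by
      rw [← show σ x.1.1 = τ x.1.2 from x.2, hx1, map_one]
    refine Subtype.ext (Prod.ext ?_ (Subgroup.mem_center_iff.1 (hc hxt) w.1.2))
    show w.1.1 * x.1.1 = x.1.1 * w.1.1
    rw [hx1, one_mul, mul_one]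
  have hperf : commutator (commutator Δ) = ⊤ := by
    refine Subgroup.map_injective (commutator Δ).subtype_injective ?_
    rw [commutator_def (commutator Δ), Subgroup.map_commutator, ← MonoidHom.range_eq_map,
      Subgroup.range_subtype]
    exact commutator_self_of_central p1 hp1 hk1 (isPerfect_of_stem σ hσ hG)
  let ρ : commutator Δ →* commutator E :=
    (p2.comp (commutator Δ).subtype).codRestrict _ fun x => hm2 ▸ Subgroup.mem_map_of_mem p2 x.2
  have hρs : Function.Surjective ρ := fun y => by
    obtain ⟨x, hx, e⟩ := hm2.ge y.2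
    exact ⟨⟨x, hx⟩, Subtype.ext e⟩
  have hρ : Cfsg.IsStemExtension ρ := by
    refine ⟨hρs, ?_, fun x _ => hperf ▸ Subgroup.mem_top x⟩
    intro x hx
    rw [Subgroup.mem_center_iff]
    intro w
    have hx2 : x.1.1.2 = 1 := congrArg Subtype.val hx
    have hxs : σ x.1.1.1 = 1 := by
      rw [show σ x.1.1.1 = τ x.1.1.2 from x.1.2, hx2, map_one]
    refine Subtype.ext (Subtype.ext (Prod.ext
      (Subgroup.mem_center_iff.1 (hσ.2.1 hxs) w.1.1.1) ?_))
    show w.1.1.2 * x.1.1.2 = x.1.1.2 * w.1.1.2
    rw [hx2, one_mul, mul_one]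
  have hρi : Function.Injective ρ :=
    (MonoidHom.ker_eq_bot_iff ρ).1 (hno (commutator Δ) ρ hρ)
  let e := MulEquiv.ofBijective ρ ⟨hρi, hρs⟩
  let ψ : commutator E →* Γ := (p1.comp (commutator Δ).subtype).comp e.symm.toMonoidHom
  have hψ : ∀ n, σ (ψ n) = τ n := fun n => by
    have h1 : ρ (e.symm n) = n := e.apply_symm_apply n
    have h2 := congrArg Subtype.val h1
    show σ (e.symm n).1.1.1 = _
    rw [show σ (e.symm n).1.1.1 = τ (e.symm n).1.1.2 from (e.symm n).1.2]
    exact congrArg τ h2
  refine ⟨(ψ.comp (τ.comp (commutator E).subtype).ker.subtype).codRestrict _ fun x => ?_, ?_⟩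
  · show σ (ψ x.1) = 1
    rw [hψ]; exact x.2
  · rintro ⟨g, hg⟩
    obtain ⟨d, hd, ed⟩ := hm1.ge (Subgroup.mem_top g)
    have hn : ψ (ρ ⟨d, hd⟩) = g := by
      show p1 ((e.symm (e ⟨d, hd⟩) : commutator Δ) : Δ) = g
      rw [e.symm_apply_apply]
      exact ed
    refine ⟨⟨ρ ⟨d, hd⟩, ?_⟩, Subtype.ext hn⟩
    show τ (ρ ⟨d, hd⟩) = 1
    rw [← hψ, hn]; exact hg

end CfsgLib.Schur
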