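import Cfsg.Prelude.Def_KGroupFacts
import Mathlib.GroupTheory.Transfer
import Mathlib.GroupTheory.Sylow
import Mathlib.GroupTheory.Abelianization.Defs
import Mathlib.Algebra.Group.TypeTags.Finite

/-!
# Stem extensions and the Schur multiplier predicate: basic tools

* `mem_commutator_of_index_coprime`: the transfer argument. A central `p`-element in the commutator
  subgroup lies in the commutator subgroup of every subgroup of index prime to `p`.
* `hasCyclicSchurMultiplier_one`: the multiplier is trivial as soon as, for every prime `p` dividing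
  the order, no stem extension has a kernel element of order `p` when that kernel has exponent `p`.
-/

set_option autoImplicit false
set_option linter.style.haveILetI false

namespace CfsgLib.Schur

open Subgroup

universe u

/-- A central element `z` of the commutator subgroup raised to the index of `H` lies in `[H, H]`. -/
theorem pow_index_mem_commutator {Γ : Type*} [Group Γ] (H : Subgroup Γ) [H.FiniteIndex] {z : Γ}
    (hz : z ∈ Subgroup.center Γ) (hz' : z ∈ commutator Γ) : z ^ H.index ∈ ⁅H, H⁆ := by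
  have key : ∀ (k : ℕ) (g₀ : Γ), g₀⁻¹ * z ^ k * g₀ ∈ H → g₀⁻¹ * z ^ k * g₀ = z ^ k := by
    intro k g₀ _
    have hc := (Subgroup.mem_center_iff.mp (Subgroup.pow_mem _ hz k)) g₀⁻¹
    rw [hc, mul_assoc, inv_mul_cancel, mul_one]
  let ϕ : H →* Abelianization H := Abelianization.of
  have h := MonoidHom.transfer_eq_pow ϕ z key
  have hker : MonoidHom.transfer ϕ z = 1 := by
    have hle : commutator Γ ≤ (MonoidHom.transfer ϕ).ker := Abelianization.commutator_subset_ker _
    exact hle hz'
  rw [hker] at h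
  have h2 : (⟨z ^ H.index, MonoidHom.transfer_eq_pow_aux z key⟩ : H) ∈ commutator H := by
    have := h.symm
    exact (QuotientGroup.eq_one_iff _).mp this
  have h3 := Subgroup.mem_map_of_mem H.subtype h2
  rwa [commutator_def, Subgroup.map_commutator, ← MonoidHom.range_eq_map,
    Subgroup.range_subtype] at h3

/-- The transfer lemma: a central `p`-element of the commutator subgroup lies in the commutator
subgroup of each subgroup of index prime to `p`. -/
theorem mem_commutator_of_index_coprime {Γ : Type*} [Group Γ] (H : Subgroup Γ) [H.FiniteIndex]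
    {z : Γ} (hz : z ∈ Subgroup.center Γ) (hz' : z ∈ commutator Γ)
    (hcop : (orderOf z).Coprime H.index) : z ∈ ⁅H, H⁆ := by
  have h := pow_index_mem_commutator H hz hz'
  obtain ⟨m, hm⟩ := exists_pow_eq_self_of_coprime hcop.symm
  have := Subgroup.pow_mem _ h m
  rwa [hm] at this

/-- Identity is a stem extension with trivial kernel. -/
theorem isStemExtension_id (G : Type*) [Group G] : Cfsg.IsStemExtension (MonoidHom.id G) := by
  refine ⟨fun x => ⟨x, rfl⟩, ?_, ?_⟩ <;> simp

/-- Quotient of a stem extension by a subgroup of the kernel is a stem extension. -/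
theorem isStemExtension_lift {Γ G : Type*} [Group Γ] [Group G] (σ : Γ →* G)
    (hσ : Cfsg.IsStemExtension σ) (M : Subgroup Γ) [M.Normal] (hM : M ≤ σ.ker) :
    Cfsg.IsStemExtension (QuotientGroup.lift M σ hM) := by
  obtain ⟨h1, h2, h3⟩ := hσ
  have hmap : (QuotientGroup.lift M σ hM).ker = σ.ker.map (QuotientGroup.mk' M) :=
    QuotientGroup.ker_lift M σ hM
  refine ⟨?_, ?_, ?_⟩
  · intro g
    obtain ⟨x, rfl⟩ := h1 g
    exact ⟨QuotientGroup.mk x, rfl⟩
  · rw [hmap]
    rintro _ ⟨z, hz, rfl⟩
    rw [Subgroup.mem_center_iff]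
    intro q
    obtain ⟨y, rfl⟩ := QuotientGroup.mk'_surjective M q
    rw [← map_mul, ← map_mul, (Subgroup.mem_center_iff.mp (h2 hz)) y]
  · rw [hmap]
    refine (Subgroup.map_mono h3).trans ?_
    rw [commutator_def, commutator_def, Subgroup.map_commutator]
    exact Subgroup.commutator_mono le_top le_top

/-- The subgroup of `p`-th powers of kernel elements of a central extension is normal. -/
def powSubgroup {Γ : Type*} [Group Γ] (K : Subgroup Γ) (hK : K ≤ Subgroup.center Γ) (p : ℕ) :
    Subgroup Γ where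
  carrier := {x | ∃ y ∈ K, y ^ p = x}
  one_mem' := ⟨1, K.one_mem, one_pow p⟩
  mul_mem' := by
    rintro a b ⟨y, hy, rfl⟩ ⟨w, hw, rfl⟩
    refine ⟨y * w, K.mul_mem hy hw, ?_⟩
    have hc : Commute y w := ((Subgroup.mem_center_iff.mp (hK hy)) w).symm
    exact hc.mul_pow p
  inv_mem' := by
    rintro a ⟨y, hy, rfl⟩
    exact ⟨y⁻¹, K.inv_mem hy, inv_pow y p⟩

theorem powSubgroup_le {Γ : Type*} [Group Γ] (K : Subgroup Γ) (hK : K ≤ Subgroup.center Γ)
    (p : ℕ) : powSubgroup K hK p ≤ K := by
  rintro _ ⟨y, hy, rfl⟩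
  exact K.pow_mem hy p

theorem powSubgroup_normal {Γ : Type*} [Group Γ] (K : Subgroup Γ) (hK : K ≤ Subgroup.center Γ)
    (p : ℕ) : (powSubgroup K hK p).Normal where
  conj_mem := by
    intro x hx g
    have hc : x ∈ Subgroup.center Γ := hK (powSubgroup_le K hK p hx)
    rw [(Subgroup.mem_center_iff.mp hc) g, mul_assoc, mul_inv_cancel, mul_one]
    exact hx

/-- If no stem extension of `G` has a nontrivial kernel of exponent `p`, then no stem extension of
`G` has a kernel of order divisible by `p`. -/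
theorem not_dvd_card_ker_of_exponent_p {G : Type u} [Group G] {p : ℕ} [Fact p.Prime]
    (h : ∀ (Γ : Type u) [Group Γ] [Finite Γ] (σ : Γ →* G), Cfsg.IsStemExtension σ →
      (∀ z ∈ σ.ker, z ^ p = 1) → σ.ker = ⊥)
    {Γ : Type u} [Group Γ] [Finite Γ] (σ : Γ →* G) (hσ : Cfsg.IsStemExtension σ) :
    ¬ p ∣ Nat.card σ.ker := by
  intro hdvd
  let M := powSubgroup σ.ker hσ.2.1 p
  haveI : M.Normal := powSubgroup_normal σ.ker hσ.2.1 p
  have hM : M ≤ σ.ker := powSubgroup_le σ.ker hσ.2.1 p
  have hker : (QuotientGroup.lift M σ hM).ker = σ.ker.map (QuotientGroup.mk' M) :=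
    QuotientGroup.ker_lift M σ hM
  have h1 := h (Γ ⧸ M) (QuotientGroup.lift M σ hM) (isStemExtension_lift σ hσ M hM) (by
    rw [hker]
    rintro _ ⟨z, hz, rfl⟩
    rw [← map_pow]
    exact (QuotientGroup.eq_one_iff _).mpr ⟨z, hz, rfl⟩)
  rw [hker, Subgroup.map_eq_bot_iff, QuotientGroup.ker_mk'] at h1
  let f : σ.ker → σ.ker := fun y => y ^ p
  have hsurj : Function.Surjective f := by
    intro x
    obtain ⟨y, hy, hyx⟩ := h1 x.2
    exact ⟨⟨y, hy⟩, Subtype.ext hyx⟩
  have hinj : Function.Injective f := Finite.injective_iff_surjective.mpr hsurj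
  obtain ⟨y, hy⟩ := exists_prime_orderOf_dvd_card' (G := σ.ker) p hdvd
  have : y = 1 := hinj (show y ^ p = 1 ^ p by rw [one_pow, ← hy, pow_orderOf_eq_one])
  exact (Fact.out : p.Prime).ne_one (by rw [← hy, this, orderOf_one])

/-- The kernel of a finite stem extension has all its prime divisors among those of the base. -/
theorem prime_dvd_card_of_dvd_card_ker {Γ G : Type*} [Group Γ] [Finite Γ] [Group G]
    (σ : Γ →* G) (hσ : Cfsg.IsStemExtension σ) {p : ℕ} [hp : Fact p.Prime]
    (hdvd : p ∣ Nat.card σ.ker) : p ∣ Nat.card G := by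
  by_contra hnd
  obtain ⟨y, hy⟩ := exists_prime_orderOf_dvd_card' (G := σ.ker) p hdvd
  have hidx : σ.ker.index = Nat.card G := by
    rw [Subgroup.index_ker, MonoidHom.range_eq_top.mpr hσ.1, Subgroup.card_top]
  have hord : orderOf (y : Γ) = p := by rw [Subgroup.orderOf_coe, hy]
  have hcop : (orderOf (y : Γ)).Coprime σ.ker.index := by
    rw [hord, hidx]
    exact hp.out.coprime_iff_not_dvd.mpr hnd
  have h1 := mem_commutator_of_index_coprime σ.ker (hσ.2.1 y.2) (hσ.2.2 y.2) hcop
  have h2 : ⁅σ.ker, σ.ker⁆ = ⊥ := by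
    rw [eq_bot_iff, Subgroup.commutator_le]
    intro a ha b _
    rw [Subgroup.mem_bot, commutatorElement_eq_one_iff_commute]
    exact ((Subgroup.mem_center_iff.mp (hσ.2.1 ha)) b).symm
  rw [h2, Subgroup.mem_bot] at h1
  exact hp.out.ne_one (by rw [← hord, h1, orderOf_one])

/-- A criterion for a trivial Schur multiplier. -/
theorem hasCyclicSchurMultiplier_one (G : Type u) [Group G] [Finite G]
    (h : ∀ p : ℕ, p.Prime → p ∣ Nat.card G → ∀ (Γ : Type u) [Group Γ] [Finite Γ] (σ : Γ →* G),
      Cfsg.IsStemExtension σ → (∀ z ∈ σ.ker, z ^ p = 1) → σ.ker = ⊥) :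
    Cfsg.HasCyclicSchurMultiplier G 1 := by
  constructor
  · refine ⟨G, inferInstance, inferInstance, MonoidHom.id G, isStemExtension_id G, ?_⟩
    haveI : Subsingleton (MonoidHom.id G).ker := by
      rw [MonoidHom.ker_id]; infer_instance
    haveI : Subsingleton (Multiplicative (ZMod 1)) := Equiv.subsingleton Multiplicative.toAdd
    exact ⟨{ toFun := fun _ => 1
             invFun := fun _ => 1
             left_inv := fun x => Subsingleton.elim _ _
             right_inv := fun x => Subsingleton.elim _ _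
             map_mul' := fun _ _ => (mul_one _).symm }⟩
  · intro Γ _ _ σ hσ
    refine ⟨1, fun x => ⟨1, ?_⟩⟩
    have hcard : Nat.card σ.ker = 1 := by
      by_contra hne
      obtain ⟨p, hp, hdvd⟩ := Nat.exists_prime_and_dvd hne
      haveI : Fact p.Prime := ⟨hp⟩
      exact not_dvd_card_ker_of_exponent_p
        (h p hp (prime_dvd_card_of_dvd_card_ker σ hσ hdvd)) σ hσ hdvd
    haveI : Subsingleton σ.ker := (Nat.card_eq_one_iff_unique.mp hcard).1
    exact Subsingleton.elim _ _

/-- A nontrivial kernel of exponent `p` can be cut down to one of order `p`. -/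
theorem exists_lift_ker_card_prime {Γ G : Type*} [Group Γ] [Finite Γ] [Group G] {p : ℕ}
    [hp : Fact p.Prime] (σ : Γ →* G) (hσ : Cfsg.IsStemExtension σ) (hexp : ∀ z ∈ σ.ker, z ^ p = 1)
    (hne : σ.ker ≠ ⊥) :
    ∃ (M : Subgroup Γ) (_ : M.Normal) (hM : M ≤ σ.ker),
      Nat.card (QuotientGroup.lift M σ hM).ker = p := by
  have hpg : IsPGroup p σ.ker := fun z => ⟨1, Subtype.ext (by simpa using hexp z z.2)⟩
  obtain ⟨n, hn⟩ := IsPGroup.iff_card.mp hpg
  obtain ⟨m, rfl⟩ : ∃ m, n = m + 1 := by
    refine Nat.exists_eq_succ_of_ne_zero ?_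
    rintro rfl
    exact hne (Subgroup.eq_bot_of_card_eq _ (by simpa using hn))
  have hdvd : p ^ m ∣ Nat.card σ.ker := by rw [hn]; exact pow_dvd_pow p (Nat.le_succ m)
  obtain ⟨M0, hM0⟩ := Sylow.exists_subgroup_card_pow_prime p hdvd
  let M := M0.map σ.ker.subtype
  have hM : M ≤ σ.ker := Subgroup.map_subtype_le M0
  haveI hMn : M.Normal := ⟨fun x hx g => by
    rw [(Subgroup.mem_center_iff.mp (hσ.2.1 (hM hx))) g, mul_inv_cancel_right]; exact hx⟩
  have hMc : Nat.card M = p ^ m := by
    rw [Subgroup.card_map_of_injective σ.ker.subtype_injective, hM0]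
  refine ⟨M, hMn, hM, ?_⟩
  have h1 := Subgroup.card_eq_card_quotient_mul_card_subgroup M
  have h2 := Subgroup.card_eq_card_quotient_mul_card_subgroup σ.ker
  have h3 := Subgroup.card_eq_card_quotient_mul_card_subgroup (QuotientGroup.lift M σ hM).ker
  have e1 : Nat.card (Γ ⧸ σ.ker) = Nat.card G :=
    Nat.card_congr (QuotientGroup.quotientKerEquivOfSurjective σ hσ.1).toEquiv
  have e2 : Nat.card ((Γ ⧸ M) ⧸ (QuotientGroup.lift M σ hM).ker) = Nat.card G :=
    Nat.card_congr (QuotientGroup.quotientKerEquivOfSurjective _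
      (isStemExtension_lift σ hσ M hM).1).toEquiv
  rw [e1, hn] at h2
  rw [hMc] at h1
  rw [e2] at h3
  haveI : Finite G := Finite.of_surjective σ hσ.1
  have hG : 0 < Nat.card G := Nat.card_pos
  have hpm : 0 < p ^ m := pow_pos hp.out.pos m
  rw [h3, h2, pow_succ'] at h1
  rw [Nat.mul_assoc] at h1
  exact (Nat.eq_of_mul_eq_mul_right hpm (Nat.eq_of_mul_eq_mul_left hG h1)).symm

/-- If `G` has a cyclic Sylow `p`-subgroup, stated through any cyclic subgroup of index prime to
`p`, then a stem extension with kernel of exponent `p` is trivial. -/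
theorem ker_eq_bot_of_index_zpowers {G Γ : Type*} [Group G] [Group Γ] [Finite Γ] {p : ℕ}
    (hp : p.Prime) (g : G) (hg : ¬ p ∣ (Subgroup.zpowers g).index) (σ : Γ →* G)
    (hσ : Cfsg.IsStemExtension σ) (hexp : ∀ z ∈ σ.ker, z ^ p = 1) : σ.ker = ⊥ := by
  rw [eq_bot_iff]
  intro z hz
  let H := (Subgroup.zpowers g).comap σ
  have hcop : (orderOf z).Coprime H.index := by
    rw [Subgroup.index_comap_of_surjective _ hσ.1]
    refine Nat.Coprime.coprime_dvd_left (orderOf_dvd_of_pow_eq_one (hexp z hz)) ?_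
    exact hp.coprime_iff_not_dvd.mpr hg
  have h1 := mem_commutator_of_index_coprime H (hσ.2.1 hz) (hσ.2.2 hz) hcop
  obtain ⟨X, hX⟩ := hσ.1 g
  have hcomm : ∀ a ∈ H, Commute a X := by
    intro a ha
    obtain ⟨n, hn⟩ := Subgroup.mem_zpowers_iff.mp ha
    have hk : a * (X ^ n)⁻¹ ∈ σ.ker := by
      rw [MonoidHom.mem_ker, map_mul, map_inv, map_zpow, hX, hn, mul_inv_cancel]
    have hc : Commute (a * (X ^ n)⁻¹) X := ((Subgroup.mem_center_iff.mp (hσ.2.1 hk)) X).symm
    have := hc.mul_left ((Commute.refl X).zpow_left n)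
    rwa [inv_mul_cancel_right] at this
  have h2 : ⁅H, H⁆ = ⊥ := by
    rw [eq_bot_iff, Subgroup.commutator_le]
    intro a ha b hb
    rw [Subgroup.mem_bot, commutatorElement_eq_one_iff_commute]
    obtain ⟨n, hn⟩ := Subgroup.mem_zpowers_iff.mp hb
    have hk : b * (X ^ n)⁻¹ ∈ σ.ker := by
      rw [MonoidHom.mem_ker, map_mul, map_inv, map_zpow, hX, hn, mul_inv_cancel]
    have hc : Commute a (b * (X ^ n)⁻¹) := (Subgroup.mem_center_iff.mp (hσ.2.1 hk)) a
    have := hc.mul_right ((hcomm a ha).zpow_right n)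
    rwa [inv_mul_cancel_right] at this
  rwa [h2] at h1

end CfsgLib.Schur
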