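import Cfsg.Agent.Schur.Collect
import Mathlib.Algebra.Group.Subgroup.Pointwise
import Mathlib.GroupTheory.Index

/-!
# Subgroups generated by a sequence satisfying power-commutator relations
-/

set_option autoImplicit false

namespace CfsgLib.Schur.Pc

open scoped Pointwise

variable {Γ : Type*} [Group Γ]

/-- Power rules and commutation rules are present for the generators `0, …, n - 1`. -/
def shaped (p n : ℕ) (rs : Rules) : Bool :=
  decide (0 < p) && (List.range n).all fun i =>
    (rs.any fun q => q.1 == List.replicate p i && q.2.all fun a => decide (i < a ∧ a < n)) &&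
      (List.range n).all fun j => decide (j ≤ i) ||
        rs.any fun q => q.1 == [j, i] && q.2.head? == some i &&
          q.2.tail.all fun a => decide (i < a ∧ a < n)

/-- The subgroup generated by `y i, …, y (n - 1)`. -/
def tailSubgroup (y : ℕ → Γ) (n i : ℕ) : Subgroup Γ := Subgroup.closure (y '' Set.Ico i n)

theorem gen_mem_tailSubgroup (y : ℕ → Γ) {n i a : ℕ} (hi : i ≤ a) (ha : a < n) :
    y a ∈ tailSubgroup y n i :=
  Subgroup.subset_closure ⟨a, ⟨hi, ha⟩, rfl⟩

theorem tailSubgroup_mono (y : ℕ → Γ) {n i j : ℕ} (h : i ≤ j) :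
    tailSubgroup y n j ≤ tailSubgroup y n i :=
  Subgroup.closure_mono (Set.image_mono (Set.Ico_subset_Ico_left h))

theorem tailSubgroup_self (y : ℕ → Γ) {n i : ℕ} (h : n ≤ i) : tailSubgroup y n i = ⊥ := by
  rw [tailSubgroup, Set.Ico_eq_empty (by omega), Set.image_empty, Subgroup.closure_empty]

theorem card_tailSubgroup_le [Finite Γ] {p n : ℕ} {rs : Rules} (y : ℕ → Γ)
    (hs : shaped p n rs = true) (h : ∀ q ∈ rs, ev y q.1 = ev y q.2) :
    ∀ d i, i + d = n → Nat.card (tailSubgroup y n i) ≤ p ^ d := by
  simp only [shaped, Bool.and_eq_true, List.all_eq_true, List.mem_range, Bool.or_eq_true,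
    decide_eq_true_eq, List.any_eq_true, beq_iff_eq] at hs
  obtain ⟨hp0, hs⟩ := hs
  intro d
  induction d with
  | zero =>
    intro i hi
    rw [tailSubgroup_self y (by omega), Subgroup.card_bot, pow_zero]
  | succ d ih =>
    intro i hi
    have hin : i < n := by omega
    obtain ⟨⟨qp, hqp, hqp1, hqp2⟩, hc⟩ := hs i hin
    have hpow : y i ^ p ∈ tailSubgroup y n (i + 1) := by
      have := h qp hqp
      rw [hqp1, ev_replicate] at this
      rw [this]
      exact ev_mem y fun a ha => gen_mem_tailSubgroup y (hqp2 a ha).1 (hqp2 a ha).2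
    have hconj : ∀ s ∈ tailSubgroup y n (i + 1),
        (y i)⁻¹ * s * y i ∈ tailSubgroup y n (i + 1) := by
      have hle : tailSubgroup y n (i + 1) ≤
          (tailSubgroup y n (i + 1)).comap (MulAut.conj (y i)⁻¹).toMonoidHom := by
        conv_lhs => rw [tailSubgroup]
        rw [Subgroup.closure_le]
        rintro _ ⟨j, ⟨hj1, hj2⟩, rfl⟩
        rcases hc j hj2 with hji | ⟨q, hq, ⟨hq1, hq2⟩, hq3⟩
        · omega
        · have e := h q hq
          obtain ⟨r, hr⟩ := List.head?_eq_some_iff.mp hq2
          rw [hq1, hr, ev_cons, ev_cons, ev_cons, ev_nil, mul_one] at e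
          rw [hr, List.tail_cons] at hq3
          simp only [Subgroup.coe_comap, Set.mem_preimage, MulEquiv.coe_toMonoidHom,
            MulAut.conj_apply, inv_inv, SetLike.mem_coe]
          rw [mul_assoc, e, inv_mul_cancel_left]
          exact ev_mem y fun a ha => gen_mem_tailSubgroup y (hq3 a ha).1 (hq3 a ha).2
      intro s hs
      have := hle hs
      simpa [MulAut.conj_apply] using this
    have hnorm : y i ∈ Subgroup.normalizer (tailSubgroup y n (i + 1) : Set Γ) := by
      have hfin : (y i)⁻¹ ∈ Subgroup.normalizer (tailSubgroup y n (i + 1) : Set Γ) := by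
        rw [Subgroup.mem_normalizer_iff]
        let φ : tailSubgroup y n (i + 1) → tailSubgroup y n (i + 1) :=
          fun s => ⟨(y i)⁻¹ * s * y i, hconj s s.2⟩
        have hinj : Function.Injective φ := fun a b hab => by
          have := congrArg Subtype.val hab
          exact Subtype.ext (by simpa [φ] using this)
        have hsurj := Finite.surjective_of_injective hinj
        intro s
        rw [inv_inv]
        refine ⟨hconj s, fun hs => ?_⟩
        obtain ⟨a, ha⟩ := hsurj ⟨_, hs⟩
        have hval : (y i)⁻¹ * (a : Γ) * y i = (y i)⁻¹ * s * y i := congrArg Subtype.val ha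
        rw [← mul_left_cancel (mul_right_cancel hval)]
        exact a.2
      simpa using Subgroup.inv_mem _ hfin
    have hle : Subgroup.zpowers (y i) ≤
        Subgroup.normalizer (tailSubgroup y n (i + 1) : Set Γ) :=
      Subgroup.zpowers_le.mpr hnorm
    have hsplit : tailSubgroup y n i =
        Subgroup.zpowers (y i) ⊔ tailSubgroup y n (i + 1) := by
      apply le_antisymm
      · rw [tailSubgroup, Subgroup.closure_le]
        rintro _ ⟨j, ⟨hj1, hj2⟩, rfl⟩
        rcases Nat.eq_or_lt_of_le hj1 with rfl | hlt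
        · exact Subgroup.mem_sup_left (Subgroup.mem_zpowers _)
        · exact Subgroup.mem_sup_right (gen_mem_tailSubgroup y hlt hj2)
      · exact sup_le (Subgroup.zpowers_le.mpr (gen_mem_tailSubgroup y le_rfl hin))
          (tailSubgroup_mono y (Nat.le_succ i))
    let f : Fin p × tailSubgroup y n (i + 1) → tailSubgroup y n i := fun q =>
      ⟨y i ^ (q.1 : ℕ) * q.2, mul_mem (pow_mem (gen_mem_tailSubgroup y le_rfl hin) _)
        (tailSubgroup_mono y (Nat.le_succ i) q.2.2)⟩
    have hf : Function.Surjective f := by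
      rintro ⟨g, hg⟩
      have hg' : g ∈ ((Subgroup.zpowers (y i) ⊔ tailSubgroup y n (i + 1) : Subgroup Γ) : Set Γ) := by
        rw [← hsplit]; exact hg
      rw [Subgroup.coe_mul_of_left_le_normalizer_right _ _ hle] at hg'
      obtain ⟨a, ha, b, hb, rfl⟩ := hg'
      obtain ⟨k, rfl⟩ := Subgroup.mem_zpowers_iff.mp ha
      have hk : 0 ≤ k % (p : ℤ) := Int.emod_nonneg _ (by exact_mod_cast hp0.ne')
      have hk2 : k % (p : ℤ) < p := Int.emod_lt_of_pos _ (by exact_mod_cast hp0)
      refine ⟨(⟨(k % (p : ℤ)).toNat, by omega⟩,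
        ⟨(y i ^ p) ^ (k / (p : ℤ)) * b, mul_mem (zpow_mem hpow _) hb⟩), Subtype.ext ?_⟩
      change y i ^ (k % (p : ℤ)).toNat * ((y i ^ p) ^ (k / (p : ℤ)) * b) = y i ^ k * b
      rw [← mul_assoc, ← zpow_natCast (y i) p, ← zpow_mul,
        ← zpow_natCast (y i) (k % (p : ℤ)).toNat, Int.toNat_of_nonneg hk, ← zpow_add,
        Int.emod_add_mul_ediv]
    calc Nat.card (tailSubgroup y n i) ≤ Nat.card (Fin p × tailSubgroup y n (i + 1)) :=
          Nat.card_le_card_of_surjective f hf
      _ ≤ p * p ^ d := by
          rw [Nat.card_prod, Nat.card_fin]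
          exact Nat.mul_le_mul_left _ (ih (i + 1) (by omega))
      _ = p ^ (d + 1) := (pow_succ' p d).symm

/-- All normal words in the generators `i, …, i + d - 1`. -/
def normalWords (p : ℕ) : ℕ → ℕ → List (List ℕ)
  | 0, _ => [[]]
  | d + 1, i =>
    (List.range p).flatMap fun e => (normalWords p d (i + 1)).map fun w => List.replicate e i ++ w

theorem length_normalWords (p : ℕ) : ∀ d i, (normalWords p d i).length = p ^ d
  | 0, _ => rfl
  | d + 1, i => by
    simp [normalWords, List.length_flatMap, length_normalWords p d (i + 1), pow_succ']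

theorem mem_normalWords (p : ℕ) : ∀ d i, ∀ w ∈ normalWords p d i, ∀ a ∈ w, i ≤ a ∧ a < i + d
  | 0, i, w, hw, a, ha => by simp [normalWords] at hw; subst hw; simp at ha
  | d + 1, i, w, hw, a, ha => by
    simp only [normalWords, List.mem_flatMap, List.mem_map] at hw
    obtain ⟨e, _, v, hv, rfl⟩ := hw
    rcases List.mem_append.mp ha with h | h
    · rw [List.eq_of_mem_replicate h]; omega
    · have := mem_normalWords p d (i + 1) v hv a h; omega

/-- Lower bound for the order of the generated subgroup from distinct keys of the normal words. -/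
theorem le_card_of_nodup [Finite Γ] {β : Type*} (key : Γ → β) (p n : ℕ) (y : ℕ → Γ)
    (h : ((normalWords p n 0).map fun w => key (ev y w)).Nodup) :
    p ^ n ≤ Nat.card (tailSubgroup y n 0) := by
  classical
  have hn : ((normalWords p n 0).map (ev y)).Nodup := by
    apply List.Nodup.of_map key
    rwa [List.map_map]
  have hsub : ∀ g ∈ ((normalWords p n 0).map (ev y)).toFinset, g ∈ tailSubgroup y n 0 := by
    intro g hg
    obtain ⟨w, hw, rfl⟩ := List.mem_map.mp (List.mem_toFinset.mp hg)
    exact ev_mem y fun a ha =>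
      gen_mem_tailSubgroup y (Nat.zero_le a) (by have := mem_normalWords p n 0 w hw a ha; omega)
  have hc : ((normalWords p n 0).map (ev y)).toFinset.card = p ^ n := by
    rw [List.toFinset_card_of_nodup hn, List.length_map, length_normalWords]
  rw [← hc, ← Nat.card_eq_finsetCard]
  exact Nat.card_le_card_of_injective
    (fun g => (⟨(g : Γ), hsub g g.2⟩ : tailSubgroup y n 0))
    (fun a b hab => Subtype.ext (by simpa using hab))

end CfsgLib.Schur.Pc
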