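import Cfsg.Agent.Schur.Basic
import Cfsg.Agent.Schur.PcClosure
import Mathlib.Data.List.GetD
import Mathlib.Data.ZMod.Basic
import Mathlib.GroupTheory.SpecificGroups.Cyclic.Basic

/-!
# Certificates bounding the `p`-part of the Schur multiplier

Data: a power-commutator presentation of a `p`-subgroup of index prime to `p`, some fusion data
(tuples of words conjugate in the group), and a linear certificate modulo a power `q` of `p` saying
that, once roots of order `q` are adjoined to a kernel of order `p`, lifts of the generators can be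
adjusted so as to satisfy all relations exactly. Then no stem extension has a nontrivial kernel of
exponent `p`.
-/

set_option autoImplicit false
set_option linter.style.haveILetI false

namespace CfsgLib.Schur.Pc

/-- A certificate. `fus` lists pairs of word tuples `(U, U')` conjugate in the group, `assoc` words
with two first rewriting steps, `fusEq` triples (fusion number, word, word) over tuple indices,
`eqs` the equations these give, `adj` the exponents correcting each generator (on roots of the
tails), `combo` for each rule a combination of equations, `e + 1` the exponent of `p` in the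
order of the adjoined roots. -/
structure Cert where
  p : ℕ
  n : ℕ
  rules : Rules
  fus : List (List (List ℕ) × List (List ℕ))
  fusW : ℕ
  assoc : List (List ℕ × (ℕ × ℕ) × (ℕ × ℕ))
  fusEq : List (ℕ × List ℕ × List ℕ)
  eqs : List (List ℕ × List ℕ)
  e : ℕ
  adj : List (List ℕ)
  combo : List (List (ℕ × ℕ))
  fuel : ℕ

namespace Cert

variable (C : Cert)

/-- Number of unknown central elements. -/
def unknowns : ℕ := C.rules.length + C.fus.length * C.fusW

/-- Index of the correcting element of entry `s` of fusion `f`. -/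
def aux (f s : ℕ) : ℕ := C.rules.length + (f * C.fusW + s)

/-- Substitute the words of a tuple. -/
def subst (U : List (List ℕ)) (w : List ℕ) : List ℕ := w.flatMap fun s => U.getD s []

/-- Complete a derivation which starts with one given step. -/
def derive (q : ℕ × ℕ) (w : List ℕ) : List ℕ × List ℕ :=
  ((collect C.rules C.fuel (rewriteAt C.rules q w).1).1,
    (rewriteAt C.rules q w).2 ++ (collect C.rules C.fuel (rewriteAt C.rules q w).1).2)

/-- An associativity equation. -/
def assocEq (a : List ℕ × (ℕ × ℕ) × (ℕ × ℕ)) : List ℕ × List ℕ :=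
  if (C.derive a.2.1 a.1).1 == (C.derive a.2.2 a.1).1 then
    ((C.derive a.2.1 a.1).2, (C.derive a.2.2 a.1).2) else ([], [])

/-- The equation of a fusion. -/
def fusionEqAux (F : List (List ℕ) × List (List ℕ)) (f : ℕ) (w w' : List ℕ) :
    List ℕ × List ℕ :=
  if (collect C.rules C.fuel (subst F.1 w)).1 == (collect C.rules C.fuel (subst F.1 w')).1 &&
      (collect C.rules C.fuel (subst F.2 w)).1 == (collect C.rules C.fuel (subst F.2 w')).1 &&
      (w ++ w').all (fun s => decide (s < C.fusW)) then
    ((collect C.rules C.fuel (subst F.2 w)).2 ++ w.map (C.aux f) ++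
        (collect C.rules C.fuel (subst F.1 w')).2,
      (collect C.rules C.fuel (subst F.2 w')).2 ++ w'.map (C.aux f) ++
        (collect C.rules C.fuel (subst F.1 w)).2)
  else ([], [])

/-- A fusion equation, looked up. -/
def fusionEq (e : ℕ × List ℕ × List ℕ) : List ℕ × List ℕ :=
  match C.fus[e.1]? with
  | none => ([], [])
  | some F => C.fusionEqAux F e.1 e.2.1 e.2.2

/-- All equations. -/
def equations : List (List ℕ × List ℕ) := C.assoc.map C.assocEq ++ C.fusEq.map C.fusionEq

/-- The exponent identity of one rule after correction. -/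
def ruleCheck (r : ℕ) (l : List ℕ × List ℕ) : Bool :=
  countsEq (C.p ^ C.e) (C.p ^ (C.e + 1)) C.unknowns
    (r :: (C.combo.getD r []).flatMap
      (fun c => (List.replicate c.2 (C.eqs.getD c.1 ([], [])).2).flatten))
    (l.1.flatMap fun a => C.adj.getD a [])
    ((C.combo.getD r []).flatMap
      (fun c => (List.replicate c.2 (C.eqs.getD c.1 ([], [])).1).flatten))
    (l.2.flatMap fun a => C.adj.getD a [])

/-- The whole check. -/
def check : Bool :=
  shaped C.p C.n C.rules && C.equations == C.eqs &&
    (List.range C.rules.length).all fun r => C.ruleCheck r (C.rules.getD r ([], []))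

end Cert

universe u
open scoped commutatorElement

variable {G : Type*} [Group G] {Γ : Type*} [Group Γ]

theorem ev_flatten_replicate {M : Type*} [Monoid M] (t : ℕ → M) (L : List ℕ) (k : ℕ) :
    ev t (List.replicate k L).flatten = ev t L ^ k := by
  induction k with
  | zero => simp
  | succ k ih => rw [List.replicate_succ, List.flatten_cons, ev_append, ih, pow_succ']

theorem ev_combo_eq {A : Type*} [Monoid A] {t : ℕ → A} (eqs : List (List ℕ × List ℕ))
    (he : ∀ e ∈ eqs, ev t e.1 = ev t e.2) :
    ∀ cs : List (ℕ × ℕ),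
      ev t (cs.flatMap fun c => (List.replicate c.2 (eqs.getD c.1 ([], [])).2).flatten) =
        ev t (cs.flatMap fun c => (List.replicate c.2 (eqs.getD c.1 ([], [])).1).flatten)
  | [] => rfl
  | c :: cs => by
    rw [List.flatMap_cons, List.flatMap_cons, ev_append, ev_append, ev_combo_eq eqs he cs,
      ev_flatten_replicate, ev_flatten_replicate]
    congr 2
    by_cases h : c.1 < eqs.length
    · rw [List.getD_eq_getElem _ _ h]
      exact (he _ (List.getElem_mem h)).symm
    · rw [List.getD_eq_default _ _ (Nat.le_of_not_lt h)]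

/-- No stem extension with kernel of order `p` when there is a certificate. -/
theorem Cert.card_ker_ne (C : Cert) [Finite Γ] (σ : Γ →* G) (hσ : Cfsg.IsStemExtension σ)
    (hp : C.p.Prime) (hcheck : C.check = true) (x : ℕ → G)
    (hrules : ∀ q ∈ C.rules, ev x q.1 = ev x q.2)
    (hfus : ∀ F ∈ C.fus, ∃ g : G, ∀ s < C.fusW,
      g * ev x (F.1.getD s []) * g⁻¹ = ev x (F.2.getD s []))
    (hcard : C.p ^ C.n ≤ Nat.card (tailSubgroup x C.n 0))
    (hindex : ¬ C.p ∣ (tailSubgroup x C.n 0).index) : Nat.card σ.ker ≠ C.p := by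
  classical
  intro hK
  haveI : Fact C.p.Prime := ⟨hp⟩
  have hexp : ∀ z ∈ σ.ker, z ^ C.p = 1 := by
    intro z hz
    have := pow_card_eq_one' (x := (⟨z, hz⟩ : σ.ker))
    rw [hK] at this
    exact congrArg Subtype.val this
  obtain ⟨hsurj, hcen, hcomm⟩ := hσ
  haveI : Finite G := Finite.of_surjective σ hsurj
  let Y : ℕ → Γ := fun i => (hsurj (x i)).choose
  have hY : ∀ i, σ (Y i) = x i := fun i => (hsurj (x i)).choose_spec
  have hYev : ∀ w, σ (ev Y w) = ev x w := fun w => by
    rw [map_ev]; exact congrArg (fun y => ev y w) (funext hY)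
  have hg : ∀ f : ℕ, ∃ Gf : Γ, ∀ F, C.fus[f]? = some F → ∀ s < C.fusW,
      (ev Y (F.2.getD s []))⁻¹ * (Gf * ev Y (F.1.getD s []) * Gf⁻¹) ∈ σ.ker := by
    intro f
    rcases hF : C.fus[f]? with _ | F
    · exact ⟨1, fun F h => by simp at h⟩
    · obtain ⟨g, hg⟩ := hfus F (List.mem_of_getElem? hF)
      obtain ⟨Gf, rfl⟩ := hsurj g
      refine ⟨Gf, fun F' h s hs => ?_⟩
      rw [Option.some.injEq] at h
      subst h
      rw [MonoidHom.mem_ker]
      simp only [map_mul, map_inv, hYev]
      rw [hg s hs, inv_mul_cancel]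
  choose Gf hGf using hg
  let t : ℕ → Γ := fun i =>
    if h : i < C.rules.length then (ev Y C.rules[i].2)⁻¹ * ev Y C.rules[i].1
    else
      match C.fus[(i - C.rules.length) / C.fusW]? with
      | none => 1
      | some F =>
        if 0 < C.fusW then
          (ev Y (F.2.getD ((i - C.rules.length) % C.fusW) []))⁻¹ *
            (Gf ((i - C.rules.length) / C.fusW) *
              ev Y (F.1.getD ((i - C.rules.length) % C.fusW) []) *
              (Gf ((i - C.rules.length) / C.fusW))⁻¹)
        else 1
  have htker : ∀ i, t i ∈ σ.ker := by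
    intro i
    simp only [t]
    by_cases h : i < C.rules.length
    · rw [dif_pos h, MonoidHom.mem_ker, map_mul, map_inv, hYev, hYev,
        hrules _ (List.getElem_mem h), inv_mul_cancel]
    · rw [dif_neg h]
      split
      · exact one_mem _
      · rename_i F hF
        split_ifs with hw
        · exact hGf _ F hF _ (Nat.mod_lt _ hw)
        · exact one_mem _
  have ht : ∀ i, t i ∈ Subgroup.center Γ := fun i => hcen (htker i)
  have htp : ∀ i, t i ^ C.p = 1 := fun i => hexp _ (htker i)
  have hH : Holds Y t C.rules 0 := by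
    intro i hi
    simp only [t, Nat.zero_add, dif_pos hi, mul_inv_cancel_left]
  have hderive : ∀ q w, ev Y w = ev Y (C.derive q w).1 * ev t (C.derive q w).2 := by
    intro q w
    rw [Cert.derive, ev_append]
    conv_lhs => rw [rewriteAt_sound ht hH q w, collect_sound ht hH C.fuel (rewriteAt C.rules q w).1]
    rw [mul_assoc, comm_center (ev_mem_center ht _)]
  have hequations : ∀ e ∈ C.equations, ev t e.1 = ev t e.2 := by
    intro e he
    simp only [Cert.equations, List.mem_append, List.mem_map] at he
    rcases he with ⟨a, -, rfl⟩ | ⟨⟨f, w, w'⟩, -, rfl⟩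
    · simp only [Cert.assocEq]
      split_ifs with h
      · rw [beq_iff_eq] at h
        have e1 := hderive a.2.1 a.1
        have e2 := hderive a.2.2 a.1
        rw [h] at e1
        exact mul_left_cancel (e1.symm.trans e2)
      · rfl
    · simp only [Cert.fusionEq]
      split
      · rfl
      · rename_i F hF
        simp only [Cert.fusionEqAux]
        split_ifs with h
        · simp only [Bool.and_eq_true, beq_iff_eq, List.all_eq_true, decide_eq_true_eq,
            List.mem_append] at h
          obtain ⟨⟨h1, h2⟩, h3⟩ := h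
          have hconj : ∀ v : List ℕ, (∀ s ∈ v, s < C.fusW) →
              MulAut.conj (Gf f) (ev Y (Cert.subst F.1 v)) =
                ev Y (Cert.subst F.2 v) * ev t (v.map (C.aux f)) := by
            intro v hv
            induction v with
            | nil => simp [Cert.subst]
            | cons s v ih =>
              have hs : s < C.fusW := hv s List.mem_cons_self
              have haux : t (C.aux f s) = (ev Y (F.2.getD s []))⁻¹ *
                  (Gf f * ev Y (F.1.getD s []) * (Gf f)⁻¹) := by
                have hdiv : (f * C.fusW + s) / C.fusW = f := by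
                  rw [Nat.add_comm, Nat.add_mul_div_right _ _ (by omega), Nat.div_eq_of_lt hs]
                  simp
                have hmod : (f * C.fusW + s) % C.fusW = s := by
                  rw [Nat.add_comm, Nat.add_mul_mod_self_right, Nat.mod_eq_of_lt hs]
                simp only [t, Cert.aux]
                rw [dif_neg (by omega)]
                simp only [Nat.add_sub_cancel_left, hdiv, hmod, hF]
                rw [if_pos (by omega)]
              have ih' := ih fun a ha => hv a (List.mem_cons_of_mem _ ha)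
              simp only [Cert.subst, List.flatMap_cons, List.map_cons, ev_append, ev_cons,
                map_mul] at ih' ⊢
              rw [ih', MulAut.conj_apply]
              have : Gf f * ev Y (F.1.getD s []) * (Gf f)⁻¹ =
                  ev Y (F.2.getD s []) * t (C.aux f s) := by
                rw [haux, mul_inv_cancel_left]
              rw [this]
              simp only [mul_assoc]
              congr 1
              rw [← mul_assoc, comm_center (ht _), mul_assoc]
          have a1 := hconj w fun s hs => h3 s (Or.inl hs)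
          have a2 := hconj w' fun s hs => h3 s (Or.inr hs)
          rw [collect_sound ht hH C.fuel (Cert.subst F.1 w),
            collect_sound ht hH C.fuel (Cert.subst F.2 w)] at a1
          rw [collect_sound ht hH C.fuel (Cert.subst F.1 w'),
            collect_sound ht hH C.fuel (Cert.subst F.2 w'), ← h1, ← h2] at a2
          simp only [ev_append]
          generalize ev Y (collect C.rules C.fuel (Cert.subst F.1 w)).1 = E at a1 a2
          generalize ev Y (collect C.rules C.fuel (Cert.subst F.2 w)).1 = E' at a1 a2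
          generalize hA : ev t (collect C.rules C.fuel (Cert.subst F.1 w)).2 = A at a1 ⊢
          generalize hA' : ev t (collect C.rules C.fuel (Cert.subst F.1 w')).2 = A' at a2 ⊢
          generalize hB : ev t (collect C.rules C.fuel (Cert.subst F.2 w)).2 = B at a1 ⊢
          generalize hB' : ev t (collect C.rules C.fuel (Cert.subst F.2 w')).2 = B' at a2 ⊢
          generalize hS : ev t (w.map (C.aux f)) = S at a1 ⊢
          generalize hS' : ev t (w'.map (C.aux f)) = S' at a2 ⊢
          have hA'c : A' ∈ Subgroup.center Γ := hA' ▸ ev_mem_center ht _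
          have hAc : A ∈ Subgroup.center Γ := hA ▸ ev_mem_center ht _
          rw [map_mul, MulAut.conj_apply _ A] at a1
          rw [map_mul, MulAut.conj_apply _ A'] at a2
          rw [show Gf f * A * (Gf f)⁻¹ = A by
            rw [← comm_center hAc, mul_inv_cancel_right]] at a1
          rw [show Gf f * A' * (Gf f)⁻¹ = A' by
            rw [← comm_center hA'c, mul_inv_cancel_right]] at a2
          have h4 : MulAut.conj (Gf f) E * (A * A') = E' * (B * S * A') := by
            rw [← mul_assoc, a1]; simp only [mul_assoc]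
          have h5 : MulAut.conj (Gf f) E * (A * A') = E' * (B' * S' * A) := by
            rw [comm_center hAc, ← mul_assoc, a2]; simp only [mul_assoc]
          exact mul_left_cancel (h4.symm.trans h5)
        · rfl
  simp only [Cert.check, Bool.and_eq_true, beq_iff_eq, List.all_eq_true, List.mem_range] at hcheck
  obtain ⟨⟨hshape, heqs⟩, hruleCheck⟩ := hcheck
  rw [heqs] at hequations
  haveI hcyc : IsCyclic σ.ker := isCyclic_of_prime_card hK
  obtain ⟨z₀, hz₀⟩ := IsCyclic.exists_monoid_generator (α := σ.ker)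
  have hz₀o : orderOf (z₀ : Γ) = C.p := by
    rw [Subgroup.orderOf_coe, orderOf_eq_card_of_forall_mem_zpowers, hK]
    exact fun x => (mem_powers_iff_mem_zpowers).mp (hz₀ x)
  have hexps : ∀ i, ∃ k : ℕ, (z₀ : Γ) ^ k = t i := by
    intro i
    obtain ⟨k, hk⟩ := Submonoid.mem_powers_iff _ _ |>.mp (hz₀ ⟨t i, htker i⟩)
    exact ⟨k, congrArg Subtype.val hk⟩
  choose k hk using hexps
  let q := C.p ^ (C.e + 1)
  haveI : NeZero q := ⟨pow_ne_zero _ hp.ne_zero⟩
  let a : Multiplicative (ZMod q) := Multiplicative.ofAdd 1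
  have ha : orderOf a = q := by rw [orderOf_ofAdd_eq_addOrderOf, ZMod.addOrderOf_one]
  let ζ : ℕ → Multiplicative (ZMod q) := fun i => a ^ k i
  have hζq : ∀ i, ζ i ^ q = 1 := fun i => by
    simp only [ζ]
    rw [← pow_mul, Nat.mul_comm, pow_mul, orderOf_dvd_iff_pow_eq_one.mp ha.dvd, one_pow]
  have hsum : ∀ L : List ℕ, ev t L = (z₀ : Γ) ^ (L.map k).sum ∧ ev ζ L = a ^ (L.map k).sum := by
    intro L
    induction L with
    | nil => simp
    | cons b L ih =>
      simp [ev_cons, ih.1, ih.2, ← hk b, ζ, pow_add]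
  have heqζ : ∀ e ∈ C.eqs, ev ζ e.1 ^ C.p ^ C.e = ev ζ e.2 ^ C.p ^ C.e := by
    intro e he
    have h := hequations e he
    rw [(hsum _).1, (hsum _).1, pow_eq_pow_iff_modEq, hz₀o] at h
    rw [(hsum _).2, (hsum _).2, ← pow_mul, ← pow_mul, pow_eq_pow_iff_modEq, ha]
    have := Nat.ModEq.mul_left' (C.p ^ C.e) h
    rw [← pow_succ] at this
    rwa [Nat.mul_comm _ (C.p ^ C.e), Nat.mul_comm _ (C.p ^ C.e)]
  let A : ℕ → Multiplicative (ZMod q) := fun i => ev ζ (C.adj.getD i [])
  have hrule : ∀ r (hr : r < C.rules.length),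
      ev A C.rules[r].1 * ζ r ^ C.p ^ C.e = ev A C.rules[r].2 := by
    intro r hr
    have h := ev_eq_of_countsEq hζq (hruleCheck r hr)
    rw [List.getD_eq_getElem _ _ hr, ev_cons, ev_flatMap, ev_flatMap, mul_pow] at h
    have hc : ev (fun i => ζ i ^ C.p ^ C.e)
        ((C.combo.getD r []).flatMap
          fun c => (List.replicate c.2 (C.eqs.getD c.1 ([], [])).2).flatten) =
        ev (fun i => ζ i ^ C.p ^ C.e)
        ((C.combo.getD r []).flatMap
          fun c => (List.replicate c.2 (C.eqs.getD c.1 ([], [])).1).flatten) := by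
      refine ev_combo_eq C.eqs (fun e he => ?_) _
      have hm := fun L => map_ev ζ (powMonoidHom (C.p ^ C.e)) L
      simp only [powMonoidHom_apply] at hm
      rw [← hm, ← hm, heqζ e he]
    have hm := fun L => map_ev ζ (powMonoidHom (C.p ^ C.e)) L
    simp only [powMonoidHom_apply] at hm
    rw [← hm, ← hm] at hc
    rw [hc, mul_comm (ζ r ^ _), mul_assoc] at h
    rw [mul_comm]
    exact mul_left_cancel h
  let D : Subgroup (Γ × Multiplicative (ZMod q)) :=
    Subgroup.zpowers ((z₀ : Γ), a ^ C.p ^ C.e)
  haveI hDn : D.Normal := ⟨fun x hx g => by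
    obtain ⟨j, rfl⟩ := Subgroup.mem_zpowers_iff.mp hx
    have hc : (((z₀ : Γ), a ^ C.p ^ C.e) : Γ × Multiplicative (ZMod q)) ^ j * g =
        g * ((z₀ : Γ), a ^ C.p ^ C.e) ^ j := by
      refine Prod.ext ?_ (mul_comm _ _)
      exact comm_center (Subgroup.zpow_mem _ (hcen z₀.2) j) g.1
    rw [← hc, mul_inv_cancel_right]
    exact Subgroup.zpow_mem_zpowers _ j⟩
  let π := QuotientGroup.mk' D
  let τ : (Γ × Multiplicative (ZMod q)) ⧸ D →* G :=
    QuotientGroup.lift D (σ.comp (MonoidHom.fst _ _)) (by
      rw [Subgroup.zpowers_le]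
      exact z₀.2)
  let incl : Γ →* (Γ × Multiplicative (ZMod q)) ⧸ D := π.comp (MonoidHom.inl _ _)
  have hincl : ∀ g ∈ σ.ker, incl g = 1 → g = 1 := by
    intro g _ hg
    obtain ⟨j, hj⟩ := Subgroup.mem_zpowers_iff.mp ((QuotientGroup.eq_one_iff _).mp hg)
    obtain ⟨hj1, hj2⟩ := Prod.ext_iff.mp hj
    simp only [Prod.pow_fst, Prod.pow_snd, MonoidHom.inl_apply] at hj1 hj2
    rw [← zpow_natCast a (C.p ^ C.e), ← zpow_mul, ← orderOf_dvd_iff_zpow_eq_one, ha] at hj2
    have hdvd : (C.p : ℤ) ∣ j := by
      have hq' : (q : ℤ) = ((C.p ^ C.e : ℕ) : ℤ) * C.p := by simp [q, pow_succ]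
      rw [hq'] at hj2
      exact (mul_dvd_mul_iff_left (by exact_mod_cast pow_ne_zero C.e hp.ne_zero)).mp hj2
    rw [← hj1, ← orderOf_dvd_iff_zpow_eq_one, hz₀o]
    exact hdvd
  let Y' : ℕ → (Γ × Multiplicative (ZMod q)) ⧸ D := fun i => π (Y i, (A i)⁻¹)
  have hexact : ∀ l ∈ C.rules, ev Y' l.1 = ev Y' l.2 := by
    intro l hl
    obtain ⟨r, hr, rfl⟩ := List.getElem_of_mem hl
    have hpair : ∀ w, ev Y' w = π (ev Y w, (ev A w)⁻¹) := by
      intro w
      rw [← map_ev (fun i => ((Y i, (A i)⁻¹) : Γ × Multiplicative (ZMod q))) π]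
      congr 1
      refine Prod.ext ?_ ?_
      · exact map_ev (M := Γ × Multiplicative (ZMod q)) _ (MonoidHom.fst Γ (Multiplicative (ZMod q))) w
      · exact (map_ev (M := Γ × Multiplicative (ZMod q)) _ (MonoidHom.snd Γ (Multiplicative (ZMod q))) w).trans
          (map_ev A (invMonoidHom (α := Multiplicative (ZMod q))) w).symm
    rw [hpair, hpair, hH r hr, Nat.zero_add]
    have he : ((ev Y C.rules[r].2 * t r, (ev A C.rules[r].1)⁻¹) :
        Γ × Multiplicative (ZMod q)) =
        (ev Y C.rules[r].2, (ev A C.rules[r].2)⁻¹) * (t r, ζ r ^ C.p ^ C.e) := by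
      refine Prod.ext rfl ?_
      rw [Prod.snd_mul, ← hrule r hr, mul_inv, inv_mul_cancel_right]
    rw [he, map_mul]
    have : π (t r, ζ r ^ C.p ^ C.e) = 1 := by
      refine (QuotientGroup.eq_one_iff _).mpr ?_
      refine Subgroup.mem_zpowers_iff.mpr ⟨k r, ?_⟩
      rw [zpow_natCast]
      refine Prod.ext (hk r) ?_
      simp only [Prod.pow_snd, ζ]
      rw [← pow_mul, ← pow_mul, Nat.mul_comm]
    rw [this, mul_one]
  have hY' : ∀ i, τ (Y' i) = x i := fun i => hY i
  let S := tailSubgroup Y' C.n 0
  have hScard : Nat.card S ≤ C.p ^ C.n :=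
    card_tailSubgroup_le Y' hshape hexact C.n 0 (Nat.zero_add _)
  have hmap : S.map τ = tailSubgroup x C.n 0 := by
    rw [show S = Subgroup.closure (Y' '' Set.Ico 0 C.n) from rfl, MonoidHom.map_closure,
      Set.image_image]
    simp only [hY']
    rfl
  have hinjS : ∀ s ∈ S, τ s = 1 → s = 1 := by
    let f : S → tailSubgroup x C.n 0 := fun s => ⟨τ s, hmap ▸ Subgroup.mem_map_of_mem τ s.2⟩
    have hsur : Function.Surjective f := by
      rintro ⟨g, hg⟩
      rw [← hmap] at hg
      obtain ⟨s, hs, rfl⟩ := hg
      exact ⟨⟨s, hs⟩, rfl⟩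
    have hbij : Function.Bijective f :=
      hsur.bijective_of_nat_card_le (hScard.trans hcard)
    intro s hs h1
    have : (⟨s, hs⟩ : S) = 1 := hbij.1 (Subtype.ext (by simp [f, h1]))
    exact congrArg Subtype.val this
  let H := (tailSubgroup x C.n 0).comap σ
  have hcop : (orderOf (z₀ : Γ)).Coprime H.index := by
    rw [Subgroup.index_comap_of_surjective _ hsurj, hz₀o]
    exact hp.coprime_iff_not_dvd.mpr hindex
  have h1 := mem_commutator_of_index_coprime H (hcen z₀.2) (hcomm z₀.2) hcop
  have h2 : ⁅H, H⁆ ≤ S.comap incl := by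
    rw [Subgroup.commutator_le]
    intro g hg h hh
    have hlift : ∀ g ∈ H, ∃ s ∈ S, s⁻¹ * incl g ∈ Subgroup.center _ := by
      intro g hg
      obtain ⟨s, hs, es⟩ : τ (incl g) ∈ S.map τ := by rw [hmap]; exact hg
      refine ⟨s, hs, ?_⟩
      obtain ⟨v, hv⟩ := QuotientGroup.mk'_surjective D (s⁻¹ * incl g)
      have hk1 : τ (s⁻¹ * incl g) = 1 := by rw [map_mul, map_inv, es, inv_mul_cancel]
      rw [← hv] at hk1 ⊢
      rw [Subgroup.mem_center_iff]
      intro w
      obtain ⟨w, rfl⟩ := QuotientGroup.mk'_surjective D w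
      rw [← map_mul, ← map_mul]
      congr 1
      exact Prod.ext (comm_center (hcen (MonoidHom.mem_ker.mpr hk1)) w.1).symm (mul_comm _ _)
    obtain ⟨g', hg', hkg⟩ := hlift g hg
    obtain ⟨h', hh', hkh⟩ := hlift h hh
    rw [Subgroup.mem_comap, map_commutatorElement]
    have key : ⁅incl g, incl h⁆ = ⁅g', h'⁆ := by
      obtain ⟨u, hu, hgu⟩ : ∃ u ∈ Subgroup.center _, incl g = g' * u :=
        ⟨_, hkg, (mul_inv_cancel_left g' _).symm⟩
      obtain ⟨v, hv, hhv⟩ : ∃ v ∈ Subgroup.center _, incl h = h' * v :=
        ⟨_, hkh, (mul_inv_cancel_left h' _).symm⟩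
      have hu' := comm_center hu
      have hv' := comm_center hv
      rw [hgu, hhv]
      simp only [commutatorElement_def, mul_inv_rev]
      rw [show g' * u * (h' * v) * (u⁻¹ * g'⁻¹) * (v⁻¹ * h'⁻¹) =
        g' * (u * h') * (v * u⁻¹) * g'⁻¹ * v⁻¹ * h'⁻¹ by group, hu' h', hv' u⁻¹,
        show g' * (h' * u) * (u⁻¹ * v) * g'⁻¹ * v⁻¹ * h'⁻¹ =
        g' * h' * (v * g'⁻¹) * v⁻¹ * h'⁻¹ by group, hv' g'⁻¹]
      group
    rw [key, commutatorElement_def]
    exact S.mul_mem (S.mul_mem (S.mul_mem hg' hh') (S.inv_mem hg')) (S.inv_mem hh')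
  have hτ : τ (incl z₀) = 1 := z₀.2
  have hz : (z₀ : Γ) = 1 := hincl _ z₀.2 (hinjS _ (h2 h1) hτ)
  exact hp.ne_one (by rw [← hz₀o, hz, orderOf_one])

/-- The `p`-part of the multiplier vanishes when there is a certificate. -/
theorem Cert.ker_eq_bot (C : Cert) [Finite Γ] (σ : Γ →* G) (hσ : Cfsg.IsStemExtension σ)
    (hp : C.p.Prime) (hexp : ∀ z ∈ σ.ker, z ^ C.p = 1) (hcheck : C.check = true) (x : ℕ → G)
    (hrules : ∀ q ∈ C.rules, ev x q.1 = ev x q.2)
    (hfus : ∀ F ∈ C.fus, ∃ g : G, ∀ s < C.fusW,
      g * ev x (F.1.getD s []) * g⁻¹ = ev x (F.2.getD s []))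
    (hcard : C.p ^ C.n ≤ Nat.card (tailSubgroup x C.n 0))
    (hindex : ¬ C.p ∣ (tailSubgroup x C.n 0).index) : σ.ker = ⊥ := by
  haveI : Fact C.p.Prime := ⟨hp⟩
  by_contra hne
  obtain ⟨M, hMn, hM, hc⟩ := exists_lift_ker_card_prime σ hσ hexp hne
  exact C.card_ker_ne _ (isStemExtension_lift σ hσ M hM) hp hcheck x hrules hfus hcard hindex hc

end CfsgLib.Schur.Pc
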