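import Cfsg.Agent.Schur.PcPerm
import Cfsg.Agent.Mathieu.SmallOrders

/-! Tables of members of `Cfsg.M24`, `Cfsg.Spor.M23` and `Cfsg.Spor.M11`. -/

set_option autoImplicit false

namespace CfsgLib.Schur.Pc

open Cfsg CfsgLib.Mathieu

/-- A table of a member of `Cfsg.M24`. -/
def inM24 (t : ℕ) : Bool := tableValid t && preservesCode t

theorem inGroup_of_inM24 {t : ℕ} (h : inM24 t = true) : InGroup enc M24 t := by
  simp only [inM24, Bool.and_eq_true] at h
  obtain ⟨σ, r⟩ := exists_rep_of_valid h.1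
  exact ⟨σ, mem_M24_of_table r h.2, r⟩

/-- A table of a member of `Cfsg.Spor.M23`. -/
def inM23 (t : ℕ) : Bool := inM24 t && app t 23 == 23

theorem inGroup_of_inM23 {t : ℕ} (h : inM23 t = true) : InGroup enc Spor.M23 t := by
  simp only [inM23, Bool.and_eq_true, beq_iff_eq] at h
  obtain ⟨σ, hσ, r⟩ := inGroup_of_inM24 h.1
  refine ⟨σ, mem_SporM23.2 ⟨hσ, r.apply_eq enc ?_⟩, r⟩
  change app t (idx none) = idx none
  exact h.2

/-- A table of a member of `Cfsg.Spor.M11`. -/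
def inM11 (t : ℕ) : Bool := inM12 t && app t 0 == 0

theorem inGroup_of_inM11 {t : ℕ} (h : inM11 t = true) : InGroup enc Spor.M11 t := by
  simp only [inM11, Bool.and_eq_true, beq_iff_eq] at h
  obtain ⟨σ, hσ, r⟩ := inGroup_of_inM12 h.1
  refine ⟨σ, mem_SporM11.2 ⟨hσ, r.apply_eq enc ?_⟩, r⟩
  change app t (idx (some 0)) = idx (some 0)
  exact h.2

theorem forall_inGroup {H : Subgroup (Equiv.Perm GolayPt)} {f : ℕ → Bool}
    (hf : ∀ {t : ℕ}, f t = true → InGroup enc H t) {L : List ℕ} (h : L.all f = true) :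
    ∀ t ∈ L, InGroup enc H t := fun t ht => hf (List.all_eq_true.1 h t ht)

end CfsgLib.Schur.Pc
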