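import Cfsg.Agent.Schur.PcPerm

/-! Data: Sylow subgroups of M24 with fusion, showing that the Schur multiplier is trivial. -/

set_option autoImplicit false

namespace CfsgLib.Schur.M24Data

open CfsgLib.Schur.Pc

/-- Certificate for the prime 2. -/
def cert2 : Cert where
  p := 2
  n := 10
  rules := [([0, 0], []), ([1, 1], []), ([2, 2], []), ([3, 3], []), ([4, 4], []), ([5, 5], []), ([6, 6], []), ([7, 7], []), ([8, 8], []), ([9, 9], []), ([1, 0], [0, 1, 2]), ([2, 0], [0, 2]), ([3, 0], [0, 3]), ([4, 0], [0, 4, 5]), ([5, 0], [0, 5]), ([6, 0], [0, 6, 7, 8, 9]), ([7, 0], [0, 7]), ([8, 0], [0, 8]), ([9, 0], [0, 9]), ([2, 1], [1, 2]), ([3, 1], [1, 3, 4]), ([4, 1], [1, 4]), ([5, 1], [1, 5]), ([6, 1], [1, 6, 8]), ([7, 1], [1, 7, 8, 9]), ([8, 1], [1, 8]), ([9, 1], [1, 9]), ([3, 2], [2, 3, 5]), ([4, 2], [2, 4]), ([5, 2], [2, 5]), ([6, 2], [2, 6, 8, 9]), ([7, 2], [2, 7]), ([8, 2],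 [2, 8]), ([9, 2], [2, 9]), ([4, 3], [3, 4]), ([5, 3], [3, 5]), ([6, 3], [3, 6, 7, 8]), ([7, 3], [3, 7, 9]), ([8, 3], [3, 8, 9]), ([9, 3], [3, 9]), ([5, 4], [4, 5]), ([6, 4], [4, 6, 8, 9]), ([7, 4], [4, 7, 9]), ([8, 4], [4, 8]), ([9, 4], [4, 9]), ([6, 5], [5, 6, 9]), ([7, 5], [5, 7]), ([8, 5], [5, 8]), ([9, 5], [5, 9]), ([7, 6], [6, 7]), ([8, 6], [6, 8]), ([9, 6], [6, 9]), ([8, 7], [7, 8]), ([9, 7], [7, 9]), ([9, 8], [8, 9])]
  fus := [([[1, 2, 4, 6, 7], [1, 2, 4, 6, 7]], [[0, 5, 7, 8, 9], [0, 5, 7, 8, 9]]), ([[1, 2, 4, 6, 7], [8]], [[0, 5, 7, 8, 9], [3, 5, 9]]), ([[1, 2, 4, 6, 7]], [[2, 7]]), ([[1, 2, 4], [1, 5], [6], [6, 7, 8, 9], [6, 7, 9], [9]], [[0, 2, 7], [2, 5, 8], [6, 8], [8, 9], [7, 8, 9], [7, 8]]), ([[1, 2, 4, 6, 7], [1, 2, 4, 6, 7]], [[0, 3, 5, 6, 7, 8], [0, 3, 5, 6, 7, 8]]), ([[1, 2, 4, 6, 7], [6, 7, 8]], [[1, 2, 5, 8], [1, 2, 5]]), ([[1, 2, 4, 6, 7], [1, 2, 4,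 6, 7, 8]], [[1, 2, 4, 8, 9], [5, 8]])]
  fusW := 6
  assoc := [([1, 1, 0], (0, 1), (1, 10)), ([3, 3, 1], (0, 3), (1, 20)), ([3, 3, 2], (0, 3), (1, 27)), ([4, 4, 0], (0, 4), (1, 13)), ([6, 6, 0], (0, 6), (1, 15)), ([6, 6, 1], (0, 6), (1, 23)), ([6, 6, 2], (0, 6), (1, 30)), ([6, 6, 3], (0, 6), (1, 36)), ([6, 6, 5], (0, 6), (1, 45)), ([7, 7, 1], (0, 7), (1, 24)), ([7, 7, 3], (0, 7), (1, 37)), ([1, 0, 0], (0, 10), (1, 0)), ([4, 0, 0], (0, 13), (1, 0)), ([6, 0, 0], (0, 15), (1, 0)), ([3, 1, 1], (0, 20), (1, 1)), ([3, 1, 0], (0, 20), (1, 10)), ([4, 1, 0], (0, 21), (1, 10)), ([5, 1, 0], (0, 22), (1, 10)), ([6, 1, 1], (0, 23), (1, 1)), ([6, 1, 0], (0, 23), (1, 10)), ([7, 1, 1], (0, 24), (1, 1)), ([7, 1, 0], (0, 24), (1, 10)), ([8, 1, 0], (0, 25), (1, 10)), ([9, 1, 0], (0, 26), (1, 10)), ([3, 2, 2], (0, 27), (1, 2)), ([6, 2, 2], (0, 30), (1, 2)), ([6, 3, 3], (0, 36), (1, 3)), ([6,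 3, 0], (0, 36), (1, 12)), ([6, 3, 1], (0, 36), (1, 20)), ([6, 3, 2], (0, 36), (1, 27)), ([7, 3, 3], (0, 37), (1, 3)), ([7, 3, 1], (0, 37), (1, 20)), ([7, 3, 2], (0, 37), (1, 27)), ([8, 3, 1], (0, 38), (1, 20)), ([8, 3, 2], (0, 38), (1, 27)), ([9, 3, 1], (0, 39), (1, 20)), ([9, 3, 2], (0, 39), (1, 27))]
  fusEq := [(0, [1, 1], []), (1, [0, 1], [1, 0]), (1, [1, 1], []), (2, [0, 0], []), (3, [0, 0], []), (3, [1, 1], []), (3, [3, 3], []), (3, [4, 4], []), (3, [1, 0], [0, 1]), (4, [1, 1], []), (5, [1, 1], []), (6, [0, 1], [1, 0])]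
  eqs := [([1], [10, 10, 19, 1, 2]), ([3], [20, 20, 34, 3, 4]), ([3], [27, 27, 35, 3, 5]), ([4], [13, 13, 40, 4, 5]), ([6], [15, 15, 51, 50, 49, 6, 53, 52, 7, 54, 8, 9]), ([6], [23, 23, 50, 6, 8]), ([6], [30, 30, 51, 50, 6, 54, 8, 9]), ([6], [36, 36, 50, 49, 6, 52, 7, 8]), ([6], [45, 45, 51, 6, 9]), ([7], [24, 24, 53, 52, 7, 54, 8, 9]), ([7], [37, 37, 53, 7, 9]), ([10, 11, 10, 0, 2], [0]), ([13, 14, 13, 0, 5], [0]), ([15, 18, 17, 16, 15, 0, 53, 52, 7, 54, 8, 9], [0]), ([20, 21, 20, 1, 4], [1]), ([20, 13, 12, 10], [10, 12, 20, 28, 27, 40]), ([21, 13, 10], [10, 13, 22, 21, 29, 28]), ([22, 14, 10], [10, 14, 22, 29]), ([23, 25, 23, 1, 8], [1]), ([23, 17, 15, 10, 54, 8], [10, 15, 26, 25, 24, 23, 52, 8, 54, 9, 32, 31, 30, 53, 52, 54, 8]), ([24, 26, 25, 24, 1, 54, 8, 9], [1]), ([24, 18, 17, 16, 10], [10, 16, 24, 33, 32, 31]), ([25, 17, 10], [10, 17, 25, 32]), ([26, 18, 10], [10,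 18, 26, 33]), ([27, 29, 27, 2, 5], [2]), ([30, 33, 32, 30, 2, 54, 8, 9], [2]), ([36, 38, 37, 36, 3, 52, 7, 54, 8, 9], [3]), ([36, 17, 16, 15, 12, 53, 52, 7, 54, 8], [12, 15, 39, 38, 37, 36, 52, 7, 54, 8, 9]), ([36, 25, 24, 23, 20, 52, 8, 54], [20, 23, 38, 36, 8, 44, 42, 41, 53, 52, 9]), ([36, 32, 31, 30, 27, 53, 52, 54, 8], [27, 30, 39, 38, 36, 8, 9, 46, 45, 53]), ([37, 39, 37, 3, 9], [3]), ([37, 26, 24, 20, 9], [20, 24, 39, 38, 37, 54, 9, 44, 43, 42, 54, 9]), ([37, 33, 31, 27], [27, 31, 37, 48, 46]), ([38, 26, 25, 20], [20, 25, 38, 44, 43]), ([38, 33, 32, 27], [27, 32, 38, 48, 47]), ([39, 26, 20], [20, 26, 39, 44]), ([39, 33, 27], [27, 33, 39, 48]), ([18, 17, 16, 14, 0, 48, 47, 46, 5, 53, 52, 7, 54, 8, 9, 56, 56], [24, 23, 21, 19, 1, 52, 8, 33, 31, 30, 28, 2, 53, 52, 9, 43, 42, 41, 4, 53, 52, 9, 8, 49, 6, 7]), ([39, 38, 37, 35, 54, 9, 48, 47, 46, 5, 9, 61, 62, 25, 32, 43,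 50, 52], [18, 14, 12, 48, 5, 53, 54, 9, 62, 61]), ([39, 35, 3, 48, 5, 9, 62, 62], [8]), ([31, 2, 7, 67, 67], [24, 23, 21, 19, 1, 52, 8, 33, 31, 30, 28, 2, 53, 52, 9, 43, 42, 41, 4, 53, 52, 9, 8, 49, 6, 7]), ([16, 11, 0, 31, 2, 7, 73, 73], [21, 19, 1, 28, 2, 4]), ([32, 29, 2, 47, 5, 8, 74, 74], [22, 1, 5]), ([54, 8, 9, 76, 76], [51, 50, 49, 6, 53, 52, 7, 54, 8, 9]), ([53, 52, 7, 54, 8, 9, 77, 77], [51, 49, 6, 53, 7, 9]), ([17, 14, 11, 32, 29, 2, 52, 74, 73, 21, 19, 1], [31, 2, 46, 73, 74, 22, 1, 29, 40]), ([17, 16, 15, 14, 12, 0, 53, 52, 7, 54, 8, 39, 36, 35, 3, 48, 47, 46, 45, 5, 53, 54, 9, 50, 49, 6, 52, 7, 8, 80, 80], [24, 23, 21, 19, 1, 52, 8, 33, 31, 30, 28, 2, 53, 52, 9, 43, 42, 41, 4, 53, 52, 9, 8, 49, 6, 7]), ([22, 19, 1, 29, 2, 5, 86, 86], [50, 49, 6, 52, 7, 8]), ([48, 47, 54, 8, 91, 92, 25, 24, 23, 21, 19, 1, 52, 8, 54, 33, 32, 31, 30, 28, 2, 53, 52, 54, 8, 9, 42,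 41, 4, 53, 52, 9, 50, 49, 6, 52, 7], [25, 22, 32, 29, 43, 40, 8, 92, 91, 24, 23, 21, 19, 1, 52, 8, 33, 31, 30, 28, 2, 53, 52, 9, 43, 42, 41, 4, 53, 52, 9, 8, 49, 6, 7])]
  e := 0
  adj := [[], [], [10], [], [20], [13], [], [15, 24], [23], [23, 24]]
  combo := [[(4, 1), (7, 1), (9, 1), (11, 1), (13, 1), (14, 1), (16, 1), (17, 1), (21, 1), (24, 1), (25, 1), (41, 1), (43, 1), (47, 1)], [(0, 1), (3, 1), (4, 1), (5, 1), (7, 1), (9, 1), (10, 1), (22, 1), (25, 1), (34, 1), (43, 1), (47, 1), (48, 1)], [(0, 1), (8, 1), (10, 1), (17, 1), (22, 1), (23, 1), (24, 1), (34, 1), (36, 1), (42, 1), (43, 1), (47, 1)], [(2, 1), (4, 1), (7, 1), (8, 1), (10, 1), (22, 1), (23, 1), (25, 1), (30, 1), (36, 1), (39, 1)], [(0, 1), (4, 1), (6, 1), (7, 1), (10, 1), (11, 1), (12, 1), (13, 1), (14, 1), (21, 1), (22, 1), (24, 1), (25, 1), (26, 1), (27, 1), (30, 1), (32, 1), (34, 1), (36, 1), (45, 1), (48,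 1)], [(17, 1), (24, 1)], [(4, 1), (22, 1), (23, 1), (25, 1), (43, 1)], [(4, 1), (5, 1), (7, 1), (8, 1), (43, 1), (44, 1)], [(4, 1), (7, 1), (8, 1), (10, 1), (22, 1), (23, 1), (25, 1)], [(4, 1), (5, 1), (6, 1), (7, 1), (10, 1)], [], [(0, 1), (8, 1), (10, 1), (11, 1), (17, 1), (22, 1), (23, 1), (24, 1), (34, 1), (36, 1), (42, 1), (43, 1), (47, 1)], [(2, 1), (4, 1), (5, 1), (6, 1), (7, 1), (10, 1), (12, 1), (13, 1), (20, 1), (23, 1), (25, 1), (27, 1), (32, 1), (33, 1), (34, 1), (35, 1), (38, 1), (43, 1), (44, 1)], [], [(12, 1), (17, 1), (24, 1)], [], [(0, 1), (4, 1), (7, 1), (8, 1), (10, 1), (11, 1), (12, 1), (13, 1), (14, 1), (16, 1), (25, 1), (32, 1), (37, 1), (40, 1), (41, 1), (42, 1)], [(0, 1), (5, 1), (9, 1), (10, 1), (11, 1), (12, 1), (13, 1), (14, 1), (16, 1), (25, 1), (26, 1), (27, 1), (30, 1), (32, 1), (37, 1), (40, 1), (41, 1), (42, 1), (43, 1), (44, 1)], [(13, 1),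 (26, 1), (27, 1), (30, 1)], [(8, 1), (10, 1), (17, 1), (22, 1), (23, 1), (24, 1), (34, 1), (36, 1), (42, 1), (43, 1), (47, 1)], [], [(0, 1), (4, 1), (6, 1), (7, 1), (10, 1), (11, 1), (12, 1), (13, 1), (21, 1), (22, 1), (24, 1), (25, 1), (26, 1), (27, 1), (30, 1), (32, 1), (34, 1), (36, 1), (45, 1), (48, 1)], [(3, 1), (5, 1), (9, 1), (10, 1), (23, 1), (24, 1), (34, 1), (48, 1)], [], [], [(4, 1), (7, 1), (8, 1), (10, 1), (18, 1), (22, 1), (23, 1), (25, 1)], [(4, 1), (7, 1), (8, 1), (10, 1), (18, 1), (20, 1)], [(5, 1), (9, 1), (10, 1), (15, 1), (16, 1), (23, 1), (34, 1), (48, 1)], [(3, 1), (5, 1), (9, 1), (10, 1), (16, 1), (17, 1), (23, 1), (24, 1), (34, 1), (48, 1)], [(17, 1)], [(4, 1), (5, 1), (6, 1), (7, 1), (13, 1), (19, 1), (20, 1), (21, 1), (23, 1), (26, 1), (27, 1), (30, 1)], [(0, 1), (5, 1), (9, 1), (10, 1), (11, 1), (12, 1), (14, 1), (16, 1), (21, 1), (22, 1), (23,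 1), (25, 1), (32, 1), (37, 1), (40, 1), (41, 1), (42, 1), (43, 1), (44, 1)], [(22, 1)], [(23, 1)], [(0, 1), (1, 1), (4, 1), (6, 1), (7, 1), (10, 1), (11, 1), (12, 1), (13, 1), (14, 1), (21, 1), (22, 1), (24, 1), (25, 1), (26, 1), (27, 1), (30, 1), (32, 1), (34, 1), (36, 1), (45, 1), (48, 1)], [(2, 1), (17, 1), (24, 1)], [(2, 1), (5, 1), (11, 1), (13, 1), (17, 1), (19, 1), (20, 1), (22, 1), (24, 1), (27, 1), (28, 1), (29, 1), (30, 1), (32, 1), (35, 1), (36, 1), (38, 1), (39, 1), (41, 1), (43, 1), (44, 1), (46, 1)], [(0, 1), (6, 1), (9, 1), (13, 1), (14, 1), (16, 1), (19, 1), (21, 1), (25, 1), (27, 1), (28, 1), (30, 1), (33, 1), (34, 1), (36, 1), (40, 1), (42, 1), (43, 1)], [(0, 1), (8, 1), (13, 1), (14, 1), (16, 1), (19, 1), (21, 1), (25, 1), (26, 1), (27, 1), (28, 1), (30, 1), (33, 1), (34, 1), (36, 1), (40, 1), (42, 1), (44, 1)], [(4, 1), (5, 1), (6, 1), (7, 1), (10, 1),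 (30, 1)], [(3, 1), (17, 1), (24, 1)], [(4, 1), (5, 1), (6, 1), (7, 1), (18, 1), (22, 1), (23, 1), (25, 1), (28, 1), (30, 1), (31, 1), (33, 1), (35, 1)], [(0, 1), (8, 1), (13, 1), (14, 1), (16, 1), (19, 1), (21, 1), (25, 1), (26, 1), (27, 1), (28, 1), (31, 1), (34, 1), (36, 1), (40, 1), (42, 1), (44, 1)], [(4, 1), (7, 1), (8, 1), (10, 1), (18, 1), (20, 1), (33, 1), (35, 1)], [(35, 1)], [(4, 1), (5, 1), (7, 1), (10, 1), (11, 1), (12, 1), (13, 1), (19, 1), (22, 1), (23, 1), (25, 1), (26, 1), (27, 1), (28, 1), (29, 1), (33, 1), (34, 1), (37, 1), (41, 1), (43, 1)], [(23, 1), (32, 1), (36, 1)], [(23, 1), (34, 1), (36, 1)], [(36, 1)], [(5, 1), (6, 1), (7, 1), (8, 1), (9, 1), (22, 1), (23, 1), (25, 1), (43, 1), (44, 1)], [(4, 1), (5, 1), (7, 1), (8, 1), (10, 1), (22, 1), (23, 1), (25, 1)], [(4, 1), (5, 1), (6, 1), (7, 1), (8, 1), (10, 1)], [(4, 1), (5, 1), (6, 1), (7, 1), (9, 1),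 (22, 1), (23, 1), (25, 1)], [(4, 1), (5, 1), (6, 1), (7, 1)], [(5, 1), (6, 1), (8, 1)]]
  fuel := 38

/-- Tables of the generators. -/
def cert2Xs : List ℕ := [565786075113139749474381931171795892839981209914733757956, 565685792648485468331498721340437743820357305959352238336, 564636691702722937205259659822074726351603875828885097986, 418666494420960516269787951974214618220575789859971399936, 564634823915048411554457391326392249617996968297106637056, 565402942390271759569154709794212262513759088506649313281, 541645537594924795610741151670040806522172290653254451456, 515980727007144648419447001534947706724580888038581862656, 124328219790515621609998348623598363390773661971102433536, 418281517283070817957042845406204838034249695051485675776]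

/-- Tables of the conjugating elements. -/
def cert2Gs : List ℕ := [122601169139802294573716397366814065943518150726063163401, 122601169139802294573716397366814065943518150726063163401, 49910492924400968462981348986277653868074440097740555786, 173276383998247546171837202807835820599756447010370486286, 147987224580522015689115777880517221506963962524880471061, 466070210819164861331265554664461101113193252689739646226, 123467674484337435101694471117234730033641510796818385416]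

/-- Base positions. -/
def cert2Base : List ℕ := [3, 0, 7]

/-- Certificate for the prime 3. -/
def cert3 : Cert where
  p := 3
  n := 3
  rules := [([0, 0, 0], []), ([1, 1, 1], []), ([2, 2, 2], []), ([1, 0], [0, 1, 2, 2]), ([2, 0], [0, 2]), ([2, 1], [1, 2])]
  fus := [([[1]], [[1, 1]]), ([[1, 1], [1]], [[0], [0, 0]]), ([[0, 1, 2], [0, 1, 2]], [[0, 0, 1, 1, 2], [0, 0, 1, 1, 2]]), ([[0, 1, 2], [0, 0, 1, 1, 2]], [[0, 1, 1, 2, 2], [0, 0, 1, 2, 2]])]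
  fusW := 2
  assoc := [([1, 1, 1, 0], (0, 1), (2, 3))]
  fusEq := [(0, [0, 0, 0], []), (1, [1, 1, 1], []), (2, [1, 1, 1], []), (3, [1, 1, 1], [])]
  eqs := [([1], [3, 3, 3, 5, 5, 2, 5, 1, 2]), ([1, 1, 6, 6, 6], [1]), ([0, 0, 9, 9, 9], [1]), ([4, 3, 3, 0, 5, 5, 2, 4, 4, 3, 3, 5, 5, 2, 2, 1, 4, 3, 2, 3, 0, 5, 5, 5, 5, 1, 2, 11, 11, 11], [4, 3, 2, 4, 3, 3, 0, 5, 5, 2, 5, 5, 1, 2]), ([4, 4, 3, 0, 2, 4, 3, 2, 4, 4, 3, 3, 5, 5, 2, 2, 3, 3, 0, 5, 5, 2, 5, 1, 2, 13, 13, 13], [4, 3, 3, 0, 5, 5, 2, 4, 4, 3, 3, 5, 5, 2, 2, 1, 4, 3, 2, 3, 0, 5, 5, 5, 5, 1, 2])]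
  e := 0
  adj := [[], [], [3, 3]]
  combo := [[(1, 2), (2, 2)], [(1, 1)], [(0, 1)], [], [(0, 2), (1, 1), (4, 1)], [(1, 1), (2, 1), (3, 1), (4, 1)]]
  fuel := 31

/-- Tables of the generators. -/
def cert3Xs : List ℕ := [394430933017967990593012029087481938353431419813804246531, 73756992320793477071409423136381769970634312632145019136, 198272252058844429137664158619884562675385660882800476426]

/-- Tables of the conjugating elements. -/
def cert3Gs : List ℕ := [418372435895604813005367828825588010404266505000320960001, 172891399604319604163888526658135195212298675183041185046, 122990641765653575198026551879034802653905993307388057106, 442224506422306152514792508124964876469564120473664750091]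

/-- Base positions. -/
def cert3Base : List ℕ := [0, 2]

/-- Tables of elements of order 5, 7, 11, 23. -/
def cycXs : List ℕ := [147983107564796625063082521026119419239174988833725087761, 270301771338135139873579653702897812849907647730253238016, 344530900135360147938901691564699213389493622188821709331, 516743972853013194603213853480323939745683009939772477446]

end CfsgLib.Schur.M24Data
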