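import Cfsg.Agent.Schur.PcCover
import Cfsg.Agent.Mathieu.Tables

/-!
# Certificates for groups of permutations of the 24 points, given by packed tables
-/

set_option autoImplicit false
set_option linter.style.haveILetI false

namespace CfsgLib.Schur.Pc

open Cfsg CfsgLib.Mathieu

/-- Table of the identity of the 24 points. -/
def idTable : ℕ := (List.range 24).foldr (fun i acc => acc ||| i <<< (8 * i)) 0

theorem rep_idTable : Rep enc (1 : Equiv.Perm GolayPt) idTable :=
  Rep.of_forall_fin enc (by decide +kernel)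

/-- Image of position `i` under a word in tables. -/
def tImg (xs : List ℕ) (w : List ℕ) (i : ℕ) : ℕ :=
  w.foldr (fun a j => app (xs.getD a idTable) j) i

theorem inGroup_getD {H : Subgroup (Equiv.Perm GolayPt)} {xs : List ℕ}
    (hxs : ∀ t ∈ xs, InGroup enc H t) (a : ℕ) :
    InGroup enc H (xs.getD a idTable) := by
  by_cases h : a < xs.length
  · rw [List.getD_eq_getElem _ _ h]; exact hxs _ (List.getElem_mem h)
  · rw [List.getD_eq_default _ _ (Nat.le_of_not_lt h)]; exact ⟨1, one_mem _, rep_idTable⟩

theorem exists_word_elems {H : Subgroup (Equiv.Perm GolayPt)} {xs : List ℕ}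
    (hxs : ∀ t ∈ xs, InGroup enc H t) :
    ∃ x : ℕ → H, ∀ w p, (enc ((ev x w : H).1 p)).val = tImg xs w (enc p).val := by
  choose σ hσ hr using inGroup_getD hxs
  refine ⟨fun a => ⟨σ a, hσ a⟩, fun w => ?_⟩
  induction w with
  | nil => intro p; simp [tImg]
  | cons a w ih =>
    intro p
    rw [ev_cons]
    change (enc (σ a _)).val = app (xs.getD a idTable) (tImg xs w (enc p).val)
    rw [← ih p, hr a]

/-- Two words in tables give one permutation. -/
def wordEq (xs : List ℕ) (u v : List ℕ) : Bool :=
  allBelow 24 fun i => tImg xs u i == tImg xs v i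

/-- Conjugation by a table carries one word to the other. -/
def wordConj (xs : List ℕ) (g : ℕ) (u v : List ℕ) : Bool :=
  allBelow 24 fun i => app g (tImg xs u i) == tImg xs v (app g i)

/-- Images of the base points under a word, packed. -/
def wordKey (xs : List ℕ) (base : List ℕ) (w : List ℕ) : ℕ :=
  base.foldl (fun acc b => acc * 32 + tImg xs w b) 0

/-- The checks on tables. -/
def tablesOK (C : Cert) (xs gs base : List ℕ) : Bool :=
  C.check && C.rules.all (fun l => wordEq xs l.1 l.2) && decide (gs.length = C.fus.length) &&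
    (C.fus.zip gs).all (fun F => (List.range C.fusW).all
      fun s => wordConj xs F.2 (F.1.1.getD s []) (F.1.2.getD s [])) &&
    base.all (fun b => decide (b < 24)) &&
    decide ((normalWords C.p C.n 0).map (wordKey xs base)).Nodup

/-- The `p`-part of the multiplier vanishes, from tables. -/
theorem ker_eq_bot_of_tables {H : Subgroup (Equiv.Perm GolayPt)} {Γ : Type*} [Group Γ] [Finite Γ]
    (C : Cert) (xs gs base : List ℕ) (hxs : ∀ t ∈ xs, InGroup enc H t)
    (hgs : ∀ t ∈ gs, InGroup enc H t) (hok : tablesOK C xs gs base = true) (hp : C.p.Prime)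
    {N : ℕ} (hN : Nat.card H = C.p ^ C.n * N) (hNp : ¬ C.p ∣ N) (σ : Γ →* H)
    (hσ : Cfsg.IsStemExtension σ) (hexp : ∀ z ∈ σ.ker, z ^ C.p = 1) : σ.ker = ⊥ := by
  simp only [tablesOK, Bool.and_eq_true, List.all_eq_true, decide_eq_true_eq] at hok
  obtain ⟨⟨⟨⟨⟨hcheck, hrules⟩, hlen⟩, hfus⟩, hbase⟩, hnodup⟩ := hok
  obtain ⟨x, hx⟩ := exists_word_elems hxs
  have heq : ∀ u v, wordEq xs u v = true → ev x u = ev x v := by
    intro u v h
    refine Subtype.ext (Equiv.ext fun p => enc.injective (Fin.ext ?_))
    simp only [wordEq, allBelow_iff, beq_iff_eq] at h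
    rw [hx, hx, h _ (enc p).isLt]
  have hr : ∀ l ∈ C.rules, ev x l.1 = ev x l.2 := fun l hl => heq _ _ (hrules l hl)
  have hf : ∀ F ∈ C.fus, ∃ g : H, ∀ s < C.fusW,
      g * ev x (F.1.getD s []) * g⁻¹ = ev x (F.2.getD s []) := by
    intro F hF
    obtain ⟨i, hi, rfl⟩ := List.getElem_of_mem hF
    have hi' : i < gs.length := hlen.symm ▸ hi
    obtain ⟨γ, hγ, rγ⟩ := hgs _ (List.getElem_mem hi')
    have hmem : (C.fus[i], gs[i]) ∈ C.fus.zip gs := by
      refine List.mem_iff_getElem.mpr ⟨i, by rw [List.length_zip]; omega, ?_⟩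
      rw [List.getElem_zip]
    refine ⟨⟨γ, hγ⟩, fun s hs => ?_⟩
    have h := hfus _ hmem s (List.mem_range.mpr hs)
    simp only [wordConj, allBelow_iff, beq_iff_eq] at h
    rw [mul_inv_eq_iff_eq_mul]
    refine Subtype.ext (Equiv.ext fun p => enc.injective (Fin.ext ?_))
    change (enc (γ ((ev x _ : H).1 p))).val = (enc ((ev x _ : H).1 (γ p))).val
    rw [← rγ, hx, hx, ← rγ, h _ (enc p).isLt]
  have hcard : C.p ^ C.n ≤ Nat.card (tailSubgroup x C.n 0) := by
    let key : H → ℕ := fun g => base.foldl (fun acc b => acc * 32 + (enc (g.1 (pt b))).val) 0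
    refine le_card_of_nodup key C.p C.n x ?_
    have hkey : ∀ w, key (ev x w) = wordKey xs base w := by
      intro w
      simp only [key, wordKey]
      have : ∀ b ∈ base, (enc ((ev x w : H).1 (pt b))).val = tImg xs w b := by
        intro b hb
        rw [hx]
        change tImg xs w (idx (pt b)) = _
        rw [idx_pt (hbase b hb)]
      have aux : ∀ (L : List ℕ), (∀ b ∈ L, (enc ((ev x w : H).1 (pt b))).val = tImg xs w b) →
          ∀ acc, L.foldl (fun acc b => acc * 32 + (enc ((ev x w : H).1 (pt b))).val) acc =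
            L.foldl (fun acc b => acc * 32 + tImg xs w b) acc := by
        intro L
        induction L with
        | nil => intro _ acc; rfl
        | cons b L ih =>
          intro hL acc
          rw [List.foldl_cons, List.foldl_cons, hL b List.mem_cons_self,
            ih (fun c hc => hL c (List.mem_cons_of_mem _ hc))]
      exact aux base this 0
    simpa only [hkey] using hnodup
  refine C.ker_eq_bot σ hσ hp hexp hcheck x hr hf hcard ?_
  have hshape : shaped C.p C.n C.rules = true := by
    simp only [Cert.check, Bool.and_eq_true] at hcheck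
    exact hcheck.1.1
  have hS : Nat.card (tailSubgroup x C.n 0) = C.p ^ C.n :=
    le_antisymm (card_tailSubgroup_le x hshape hr C.n 0 (Nat.zero_add _)) hcard
  have := Subgroup.index_mul_card (tailSubgroup x C.n 0)
  rw [hS, hN, Nat.mul_comm] at this
  rwa [Nat.eq_of_mul_eq_mul_left (pow_pos hp.pos _) this]

/-- A cyclic Sylow subgroup of prime order, from the table of a generator. -/
theorem ker_eq_bot_of_table {H : Subgroup (Equiv.Perm GolayPt)} {Γ : Type*} [Group Γ] [Finite Γ]
    {p : ℕ} (hp : p.Prime) (t : ℕ) (ht : InGroup enc H t)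
    (hok : (wordEq [t] (List.replicate p 0) [] && !(wordEq [t] [0] [])) = true)
    {N : ℕ} (hN : Nat.card H = p * N) (hNp : ¬ p ∣ N) (σ : Γ →* H)
    (hσ : Cfsg.IsStemExtension σ) (hexp : ∀ z ∈ σ.ker, z ^ p = 1) : σ.ker = ⊥ := by
  haveI : Fact p.Prime := ⟨hp⟩
  simp only [Bool.and_eq_true, Bool.not_eq_true'] at hok
  obtain ⟨h1, h2⟩ := hok
  obtain ⟨x, hx⟩ := exists_word_elems (xs := [t]) (H := H) fun s hs => by
    rw [List.mem_singleton.1 hs]; exact ht
  have hpow : x 0 ^ p = 1 := by
    refine Subtype.ext (Equiv.ext fun q => enc.injective (Fin.ext ?_))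
    simp only [wordEq, allBelow_iff, beq_iff_eq] at h1
    have := hx (List.replicate p 0) q
    rw [ev_replicate] at this
    rw [this, h1 _ (enc q).isLt]
    rfl
  have hne : x 0 ≠ 1 := by
    intro h
    have : wordEq [t] [0] [] = true := by
      simp only [wordEq, allBelow_iff, beq_iff_eq]
      intro i hi
      have h3 := hx [0] (pt i)
      have hone : ev x [0] = 1 := by simp [ev_cons, h]
      rw [hone] at h3
      change idx (pt i) = tImg [t] [0] (idx (pt i)) at h3
      rw [idx_pt hi] at h3
      exact h3.symm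
    rw [this] at h2
    simp at h2
  refine ker_eq_bot_of_index_zpowers hp (x 0) ?_ σ hσ hexp
  have := Subgroup.index_mul_card (Subgroup.zpowers (x 0))
  rw [Nat.card_zpowers, orderOf_eq_prime hpow hne, hN, Nat.mul_comm] at this
  rwa [Nat.eq_of_mul_eq_mul_left hp.pos this]

/-- A prime dividing a product of listed primes is listed. -/
theorem mem_of_prime_dvd_prod {p : ℕ} (hp : p.Prime) {L : List ℕ} (hL : ∀ q ∈ L, q.Prime)
    (h : p ∣ L.prod) : p ∈ L := by
  obtain ⟨q, hq, hd⟩ := (Prime.dvd_prod_iff (Nat.prime_iff.1 hp)).1 h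
  rwa [(Nat.prime_dvd_prime_iff_eq hp (hL q hq)).1 hd]

end CfsgLib.Schur.Pc
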