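import Cfsg.Agent.Schur.Basic
import Cfsg.Agent.Schur.PcClosure
import Cfsg.Agent.Schur.PcCover
import Mathlib.Data.ZMod.Basic

/-!
Certificates for the vanishing of the `2`-part of a multiplier, with packed tails.

The tail of a rewriting is recorded as a bit mask of unknowns in `ZMod 2`; collection works on a
stack, so that one step costs a bounded number of operations.
-/

set_option autoImplicit false
set_option linter.style.haveILetI false

namespace CfsgLib.Schur.Two

open CfsgLib.Schur.Pc

/-- The number of the tail of the rule for `(b, a)`. -/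
def num (b a : ℕ) : ℕ := 16 * b + a

/-- The unit mask. -/
def bit (i : ℕ) : ℕ := Nat.shiftLeft 1 i

/-- Collection on a stack, with the mask of tails. -/
def coll (R : ℕ → ℕ → List ℕ) (n : ℕ) : ℕ → List ℕ → List ℕ → ℕ → List ℕ × ℕ
  | 0, pre, rest, m => (pre.reverse ++ rest, m)
  | _ + 1, pre, [], m => (pre.reverse, m)
  | f + 1, [], a :: rest, m => coll R n f [a] rest m
  | f + 1, b :: pre, a :: rest, m =>
    bif Nat.ble a b && Nat.blt b n then coll R n f pre (R b a ++ rest) (Nat.xor m (bit (num b a)))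
    else coll R n f (a :: b :: pre) rest m

/-- The mask of the auxiliary unknowns of a word in the tuple of fusion `f`. -/
def auxMask (f : ℕ) : List ℕ → ℕ
  | [] => 0
  | s :: w => Nat.xor (bit (256 + (16 * f + s))) (auxMask f w)

/-- Substitute the words of a tuple. -/
def subst (U : List (List ℕ)) (w : List ℕ) : List ℕ := w.flatMap fun s => U.getD s []

/-- A certificate. -/
structure Cert where
  n : ℕ
  rows : List (List (List ℕ))
  fus : List (List (List ℕ) × List (List ℕ))
  assoc : List (ℕ × ℕ × ℕ)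
  fusEq : List (ℕ × List ℕ × List ℕ)
  eqs : List ℕ
  adj : List ℕ
  combo : List (List (List ℕ))
  fuel : ℕ

namespace Cert

variable (C : Cert)

/-- The right hand side of the rule for `(b, a)`. -/
def rule (b a : ℕ) : List ℕ := (C.rows.getD b []).getD a []

/-- The rules as a list. -/
def rules : Rules :=
  (List.range C.n).flatMap fun b => (List.range (b + 1)).map fun a => ([b, a], C.rule b a)

/-- Number of unknowns. -/
def unknowns : ℕ := 256 + 16 * C.fus.length

/-- Collection of a word. -/
def norm (w : List ℕ) (m : ℕ) : List ℕ × ℕ := coll C.rule C.n C.fuel [] w m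

/-- The equation of two derivations. -/
def pairEq (u v : List ℕ × ℕ) : ℕ := if u.1 = v.1 then Nat.xor u.2 v.2 else 0

/-- An associativity equation. -/
def assocEq (q : ℕ × ℕ × ℕ) : ℕ :=
  bif Nat.ble q.2.2 q.2.1 && Nat.ble q.2.1 q.1 && Nat.blt q.1 C.n then
    pairEq (C.norm (C.rule q.1 q.2.1 ++ [q.2.2]) (bit (num q.1 q.2.1)))
      (C.norm (q.1 :: C.rule q.2.1 q.2.2) (bit (num q.2.1 q.2.2)))
  else 0

/-- A fusion equation. -/
def fusionEqAux (F : List (List ℕ) × List (List ℕ)) (f : ℕ) (u v : List ℕ) : ℕ :=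
  if (C.norm (subst F.1 u) 0).1 = (C.norm (subst F.1 v) 0).1 ∧
      (C.norm (subst F.2 u) 0).1 = (C.norm (subst F.2 v) 0).1 ∧
      (u ++ v).all (fun s => Nat.blt s 16) = true then
    Nat.xor (Nat.xor (Nat.xor (C.norm (subst F.1 u) 0).2 (C.norm (subst F.1 v) 0).2)
      (Nat.xor (C.norm (subst F.2 u) 0).2 (C.norm (subst F.2 v) 0).2))
      (Nat.xor (auxMask f u) (auxMask f v))
  else 0

/-- A fusion equation, looked up. -/
def fusionEq (e : ℕ × List ℕ × List ℕ) : ℕ :=
  match C.fus[e.1]? with
  | none => 0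
  | some F => C.fusionEqAux F e.1 e.2.1 e.2.2

/-- A combination of equations. -/
def comb : List ℕ → ℕ
  | [] => 0
  | i :: L => Nat.xor (C.eqs.getD i 0) (comb L)

/-- The mask of the correction of a word. -/
def adjMask : List ℕ → ℕ
  | [] => 0
  | s :: w => Nat.xor (C.adj.getD s 0) (adjMask w)

/-- The corrected rule for `(b, a)` is exact. -/
def ruleCheck (b a : ℕ) : Bool :=
  Nat.beq (Nat.xor (Nat.xor (bit (num b a)) (C.adjMask [b, a])) (C.adjMask (C.rule b a)))
    (C.comb ((C.combo.getD b []).getD a []))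

/-- The equations are the stored ones. -/
def eqsCheck : Bool := C.assoc.map C.assocEq ++ C.fusEq.map C.fusionEq == C.eqs

/-- The other checks. -/
def linCheck : Bool :=
  Nat.ble C.n 16 && shaped 2 C.n C.rules &&
    (List.range C.n).all fun b => (List.range (b + 1)).all fun a => C.ruleCheck b a

end Cert

section

variable {Γ : Type*} [Group Γ]

/-- Powers of an element of order two, by residues. -/
def sgn (z : Γ) (c : ZMod 2) : Γ := z ^ c.val

theorem sgn_add {z : Γ} (hz : z ^ 2 = 1) (a b : ZMod 2) : sgn z (a + b) = sgn z a * sgn z b := by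
  rw [sgn, sgn, sgn, ← pow_add, ZMod.val_add]
  exact (pow_eq_pow_mod (a.val + b.val) hz).symm

theorem sgn_zero (z : Γ) : sgn z 0 = 1 := by simp [sgn]

theorem sgn_mem {z : Γ} {H : Subgroup Γ} (h : z ∈ H) (c : ZMod 2) : sgn z c ∈ H :=
  H.pow_mem h _

/-- The value of a mask. -/
def chi (k : ℕ → ZMod 2) (M m : ℕ) : ZMod 2 :=
  ∑ i ∈ Finset.range M, if m.testBit i then k i else 0

theorem chi_zero (k : ℕ → ZMod 2) (M : ℕ) : chi k M 0 = 0 := by simp [chi]

theorem chi_xor (k : ℕ → ZMod 2) (M a b : ℕ) :
    chi k M (Nat.xor a b) = chi k M a + chi k M b := by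
  rw [chi, chi, chi, ← Finset.sum_add_distrib]
  refine Finset.sum_congr rfl fun i _ => ?_
  rw [show Nat.xor a b = a ^^^ b from rfl, Nat.testBit_xor]
  cases a.testBit i <;> cases b.testBit i <;> simp [CharTwo.add_self_eq_zero]

theorem chi_bit (k : ℕ → ZMod 2) {M i : ℕ} (hi : i < M) : chi k M (bit i) = k i := by
  rw [chi, Finset.sum_eq_single i]
  · simp [bit, Nat.shiftLeft_eq]
  · intro j _ hj
    simp [bit, Nat.shiftLeft_eq, Ne.symm hj]
  · intro h; exact absurd (Finset.mem_range.2 hi) h

theorem coll_sound {R : ℕ → ℕ → List ℕ} {n M : ℕ} {Y : ℕ → Γ} {k : ℕ → ZMod 2} {z : Γ}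
    (hz : z ∈ Subgroup.center Γ) (hz2 : z ^ 2 = 1)
    (hR : ∀ a b, a ≤ b → b < n → Y b * Y a = ev Y (R b a) * sgn z (k (num b a)))
    (hM : ∀ a b, a ≤ b → b < n → num b a < M) :
    ∀ (f : ℕ) (pre rest : List ℕ) (m : ℕ),
      ev Y (coll R n f pre rest m).1 * sgn z (chi k M (coll R n f pre rest m).2) =
        ev Y (pre.reverse ++ rest) * sgn z (chi k M m)
  | 0, pre, rest, m => rfl
  | f + 1, pre, [], m => by rw [coll, List.append_nil]
  | f + 1, [], a :: rest, m => by rw [coll, coll_sound hz hz2 hR hM f]; rfl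
  | f + 1, b :: pre, a :: rest, m => by
    rw [coll]
    cases hg : Nat.ble a b && Nat.blt b n with
    | true =>
      simp only [Bool.and_eq_true] at hg
      have hab : a ≤ b := Nat.le_of_ble_eq_true hg.1
      have hbn : b < n := Nat.le_of_ble_eq_true hg.2
      rw [cond_true, coll_sound hz hz2 hR hM f, chi_xor, chi_bit k (hM a b hab hbn), sgn_add hz2]
      rw [List.reverse_cons, List.append_assoc, List.singleton_append, ev_append, ev_append,
        ev_append, ev_cons, ev_cons, ← mul_assoc (Y b), hR a b hab hbn,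
        mul_assoc (ev Y (R b a)), comm_center (sgn_mem hz _) (ev Y rest)]
      simp only [mul_assoc]
      rw [comm_center (sgn_mem hz (chi k M m))]
    | false =>
      rw [cond_false, coll_sound hz hz2 hR hM f]
      simp [List.append_assoc]

end

open scoped commutatorElement

universe u

variable {G : Type*} [Group G] {Γ : Type*} [Group Γ]

theorem Cert.norm_sound (C : Cert) {Y : ℕ → Γ} {k : ℕ → ZMod 2} {z : Γ}
    (hz : z ∈ Subgroup.center Γ) (hz2 : z ^ 2 = 1)
    (hR : ∀ a b, a ≤ b → b < C.n → Y b * Y a = ev Y (C.rule b a) * sgn z (k (num b a)))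
    (hM : ∀ a b, a ≤ b → b < C.n → num b a < C.unknowns) (w : List ℕ) (m : ℕ) :
    ev Y (C.norm w m).1 * sgn z (chi k C.unknowns (C.norm w m).2) =
      ev Y w * sgn z (chi k C.unknowns m) := by
  rw [Cert.norm, coll_sound hz hz2 hR hM]
  rfl

/-- No stem extension with kernel of order two when there is a certificate. -/
theorem Cert.card_ker_ne (C : Cert) [Finite Γ] (σ : Γ →* G) (hσ : Cfsg.IsStemExtension σ)
    (heqs : C.eqsCheck = true) (hlin : C.linCheck = true) (x : ℕ → G)
    (hrules : ∀ a b, a ≤ b → b < C.n → x b * x a = ev x (C.rule b a))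
    (hfus : ∀ F ∈ C.fus, ∃ g : G, ∀ s < 16,
      g * ev x (F.1.getD s []) * g⁻¹ = ev x (F.2.getD s []))
    (hcard : 2 ^ C.n ≤ Nat.card (tailSubgroup x C.n 0))
    (hindex : ¬ 2 ∣ (tailSubgroup x C.n 0).index) : Nat.card σ.ker ≠ 2 := by
  classical
  intro hK
  haveI : Fact (Nat.Prime 2) := ⟨Nat.prime_two⟩
  obtain ⟨hsurj, hcen, hcomm⟩ := hσ
  haveI : Finite G := Finite.of_surjective σ hsurj
  haveI : IsCyclic σ.ker := isCyclic_of_prime_card hK
  obtain ⟨z₀, hz₀⟩ := IsCyclic.exists_monoid_generator (α := σ.ker)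
  set z : Γ := (z₀ : Γ) with hzdef
  have hzo : orderOf z = 2 := by
    rw [hzdef, Subgroup.orderOf_coe, orderOf_eq_card_of_forall_mem_zpowers, hK]
    exact fun y => (mem_powers_iff_mem_zpowers).mp (hz₀ y)
  have hz2 : z ^ 2 = 1 := by rw [← hzo, pow_orderOf_eq_one]
  have hzc : z ∈ Subgroup.center Γ := hcen z₀.2
  have hexp : ∀ g ∈ σ.ker, ∃ c : ZMod 2, sgn z c = g := by
    intro g hg
    obtain ⟨e, he⟩ := Submonoid.mem_powers_iff _ _ |>.mp (hz₀ ⟨g, hg⟩)
    refine ⟨(e : ZMod 2), ?_⟩
    rw [sgn, ZMod.val_natCast, ← pow_eq_pow_mod e hz2]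
    exact congrArg Subtype.val he
  simp only [Cert.linCheck, Bool.and_eq_true, List.all_eq_true, List.mem_range] at hlin
  obtain ⟨⟨hn16, hshape⟩, hruleCheck⟩ := hlin
  have hn : C.n ≤ 16 := Nat.le_of_ble_eq_true hn16
  let Y : ℕ → Γ := fun i => (hsurj (x i)).choose
  have hY : ∀ i, σ (Y i) = x i := fun i => (hsurj (x i)).choose_spec
  have hYev : ∀ w, σ (ev Y w) = ev x w := fun w => by
    rw [map_ev]; exact congrArg (fun y => ev y w) (funext hY)
  have hg : ∀ f : ℕ, ∃ Gf : Γ, ∀ F, C.fus[f]? = some F → ∀ s < 16,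
      (ev Y (F.2.getD s []))⁻¹ * (Gf * ev Y (F.1.getD s []) * Gf⁻¹) ∈ σ.ker := by
    intro f
    rcases hF : C.fus[f]? with _ | F
    · exact ⟨1, fun F h => by simp at h⟩
    · obtain ⟨g, hg⟩ := hfus F (List.mem_of_getElem? hF)
      obtain ⟨Gf, rfl⟩ := hsurj g
      refine ⟨Gf, fun F' h s hs => ?_⟩
      rw [Option.some.injEq] at h
      subst h
      rw [MonoidHom.mem_ker]
      simp only [map_mul, map_inv, hYev]
      rw [hg s hs, inv_mul_cancel]
  choose Gf hGf using hg
  let t : ℕ → Γ := fun i =>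
    if i < 256 then
      (if i % 16 ≤ i / 16 ∧ i / 16 < C.n then
        (ev Y (C.rule (i / 16) (i % 16)))⁻¹ * (Y (i / 16) * Y (i % 16)) else 1)
    else
      match C.fus[(i - 256) / 16]? with
      | none => 1
      | some F =>
        (ev Y (F.2.getD ((i - 256) % 16) []))⁻¹ *
          (Gf ((i - 256) / 16) * ev Y (F.1.getD ((i - 256) % 16) []) * (Gf ((i - 256) / 16))⁻¹)
  have htker : ∀ i, t i ∈ σ.ker := by
    intro i
    simp only [t]
    split_ifs with h h'
    · rw [MonoidHom.mem_ker, map_mul, map_inv, map_mul, hYev, hY, hY, hrules _ _ h'.1 h'.2,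
        inv_mul_cancel]
    · exact one_mem _
    · split
      · exact one_mem _
      · rename_i F hF
        exact hGf _ F hF _ (Nat.mod_lt _ (by norm_num))
  choose k hk using fun i => hexp (t i) (htker i)
  have hR : ∀ a b, a ≤ b → b < C.n →
      Y b * Y a = ev Y (C.rule b a) * sgn z (k (num b a)) := by
    intro a b hab hb
    have e1 : num b a / 16 = b := by rw [num]; omega
    have e2 : num b a % 16 = a := by rw [num]; omega
    rw [hk]
    simp only [t]
    rw [if_pos (show num b a < 256 by rw [num]; omega), e1, e2, if_pos ⟨hab, hb⟩,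
      mul_inv_cancel_left]
  have hM : ∀ a b, a ≤ b → b < C.n → num b a < C.unknowns := by
    intro a b hab hb; rw [num, Cert.unknowns]; omega
  have hnorm := fun w m => C.norm_sound hzc hz2 hR hM w m
  set χ := chi k C.unknowns
  have hzero : ∀ c, sgn z c = 1 → c = 0 := by
    intro c h
    have hd := orderOf_dvd_of_pow_eq_one (show z ^ c.val = 1 from h)
    rw [hzo] at hd
    have := ZMod.val_lt c
    exact (ZMod.val_eq_zero c).1 (by omega)
  have hpair : ∀ u v : List ℕ × ℕ,
      ev Y u.1 * sgn z (χ u.2) = ev Y v.1 * sgn z (χ v.2) → χ (Cert.pairEq u v) = 0 := by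
    intro u v h
    rw [Cert.pairEq]
    split_ifs with he
    · rw [he] at h
      rw [show χ (Nat.xor u.2 v.2) = χ u.2 + χ v.2 from chi_xor _ _ _ _]
      refine hzero _ ?_
      rw [sgn_add hz2, mul_left_cancel h, ← sgn_add hz2, CharTwo.add_self_eq_zero, sgn_zero]
    · exact chi_zero _ _
  have hassoc : ∀ q, χ (C.assocEq q) = 0 := by
    rintro ⟨c, b, a⟩
    rw [Cert.assocEq]
    cases hg : Nat.ble a b && Nat.ble b c && Nat.blt c C.n with
    | true =>
      simp only [Bool.and_eq_true] at hg
      have hab : a ≤ b := Nat.le_of_ble_eq_true hg.1.1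
      have hbc : b ≤ c := Nat.le_of_ble_eq_true hg.1.2
      have hcn : c < C.n := Nat.le_of_ble_eq_true hg.2
      refine hpair _ _ ?_
      dsimp only
      rw [hnorm, hnorm, show χ (bit (num c b)) = k (num c b) from chi_bit _ (hM b c hbc hcn),
        show χ (bit (num b a)) = k (num b a) from chi_bit _ (hM a b hab (by omega))]
      have e1 : ev Y (C.rule c b ++ [a]) * sgn z (k (num c b)) = Y c * Y b * Y a := by
        rw [ev_append, ev_cons, ev_nil, mul_one, hR b c hbc hcn, mul_assoc, mul_assoc,
          comm_center (sgn_mem hzc _)]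
      rw [e1, ev_cons, mul_assoc (Y c) (ev Y (C.rule b a)), ← hR a b hab (by omega), mul_assoc]
    | false => exact chi_zero _ _
  have hfusion : ∀ e, χ (C.fusionEq e) = 0 := by
    rintro ⟨f, u, v⟩
    rw [Cert.fusionEq]
    split
    · exact chi_zero _ _
    · rename_i F hF
      rw [Cert.fusionEqAux]
      split_ifs with h
      · obtain ⟨h1, h2, h3⟩ := h
        have hflen : f < C.fus.length := (List.getElem?_eq_some_iff.mp hF).1
        have hconj : ∀ w : List ℕ, (∀ s ∈ w, s < 16) →
            MulAut.conj (Gf f) (ev Y (subst F.1 w)) =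
              ev Y (subst F.2 w) * sgn z (χ (auxMask f w)) := by
          intro w hw
          induction w with
          | nil => simp [subst, auxMask, χ, chi_zero, sgn_zero]
          | cons s w ih =>
            have hs : s < 16 := hw s List.mem_cons_self
            have haux : sgn z (k (256 + (16 * f + s))) = (ev Y (F.2.getD s []))⁻¹ *
                (Gf f * ev Y (F.1.getD s []) * (Gf f)⁻¹) := by
              rw [hk]
              simp only [t]
              rw [if_neg (by omega)]
              have hdiv : (256 + (16 * f + s) - 256) / 16 = f := by omega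
              have hmod : (256 + (16 * f + s) - 256) % 16 = s := by omega
              simp only [hdiv, hmod, hF]
            have ih' := ih fun a ha => hw a (List.mem_cons_of_mem _ ha)
            simp only [subst, List.flatMap_cons, ev_append, map_mul] at ih' ⊢
            rw [auxMask, show χ (Nat.xor (bit (256 + (16 * f + s))) (auxMask f w)) =
              k (256 + (16 * f + s)) + χ (auxMask f w) by
                rw [show χ (Nat.xor _ _) = χ _ + χ _ from chi_xor _ _ _ _]
                exact congrArg (· + _) (chi_bit _ (by rw [Cert.unknowns]; omega)),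
              ih', MulAut.conj_apply, sgn_add hz2]
            have : Gf f * ev Y (F.1.getD s []) * (Gf f)⁻¹ =
                ev Y (F.2.getD s []) * sgn z (k (256 + (16 * f + s))) := by
              rw [haux, mul_inv_cancel_left]
            rw [this]
            simp only [mul_assoc]
            congr 1
            rw [← mul_assoc, comm_center (sgn_mem hzc _), mul_assoc]
        have hall : ∀ s ∈ u ++ v, s < 16 := fun s hs =>
          Nat.le_of_ble_eq_true (List.all_eq_true.1 h3 s hs)
        have a1 := hconj u fun s hs => hall s (List.mem_append_left _ hs)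
        have a2 := hconj v fun s hs => hall s (List.mem_append_right _ hs)
        have key : ∀ w : List ℕ, ev Y w =
            ev Y (C.norm w 0).1 * sgn z (χ (C.norm w 0).2) := fun w => by
          have hχ : χ 0 = 0 := chi_zero _ _
          rw [hnorm, hχ, sgn_zero, mul_one]
        have hfix : ∀ c, MulAut.conj (Gf f) (sgn z c) = sgn z c := fun c => by
          rw [MulAut.conj_apply, ← comm_center (sgn_mem hzc c), mul_inv_cancel_right]
        rw [key (subst F.1 u), key (subst F.2 u), map_mul, hfix] at a1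
        rw [key (subst F.1 v), key (subst F.2 v), map_mul, hfix, ← h1, ← h2] at a2
        generalize ev Y (C.norm (subst F.1 u) 0).1 = P at a1 a2
        generalize ev Y (C.norm (subst F.2 u) 0).1 = P' at a1 a2
        simp only [show ∀ a b, χ (Nat.xor a b) = χ a + χ b from chi_xor _ _]
        generalize χ (C.norm (subst F.1 u) 0).2 = A at a1 ⊢
        generalize χ (C.norm (subst F.1 v) 0).2 = A' at a2 ⊢
        generalize χ (C.norm (subst F.2 u) 0).2 = B at a1 ⊢
        generalize χ (C.norm (subst F.2 v) 0).2 = B' at a2 ⊢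
        generalize χ (auxMask f u) = S at a1 ⊢
        generalize χ (auxMask f v) = S' at a2 ⊢
        have b1 : MulAut.conj (Gf f) P = P' * sgn z (A + B + S) := by
          rw [← mul_right_cancel_iff (a := sgn z A), a1, mul_assoc, mul_assoc,
            ← sgn_add hz2, ← sgn_add hz2]
          congr 2
          rw [show A + B + S + A = A + A + (B + S) by ring, CharTwo.add_self_eq_zero, zero_add]
        have b2 : MulAut.conj (Gf f) P = P' * sgn z (A' + B' + S') := by
          rw [← mul_right_cancel_iff (a := sgn z A'), a2, mul_assoc, mul_assoc,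
            ← sgn_add hz2, ← sgn_add hz2]
          congr 2
          rw [show A' + B' + S' + A' = A' + A' + (B' + S') by ring, CharTwo.add_self_eq_zero,
            zero_add]
        refine hzero _ ?_
        rw [show A + A' + (B + B') + (S + S') = A + B + S + (A' + B' + S') by ring, sgn_add hz2,
          mul_left_cancel (b1.symm.trans b2), ← sgn_add hz2, CharTwo.add_self_eq_zero, sgn_zero]
      · exact chi_zero _ _
  rw [Cert.eqsCheck, beq_iff_eq] at heqs
  have hev : ∀ e ∈ C.eqs, χ e = 0 := by
    rw [← heqs]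
    intro e he
    simp only [List.mem_append, List.mem_map] at he
    rcases he with ⟨q, -, rfl⟩ | ⟨q, -, rfl⟩
    · exact hassoc q
    · exact hfusion q
  have hcomb : ∀ L, χ (C.comb L) = 0 := by
    intro L
    induction L with
    | nil => exact chi_zero _ _
    | cons i L ih =>
      rw [Cert.comb, show χ (Nat.xor _ _) = χ _ + χ _ from chi_xor _ _ _ _, ih, add_zero]
      by_cases h : i < C.eqs.length
      · rw [List.getD_eq_getElem _ _ h]; exact hev _ (List.getElem_mem h)
      · rw [List.getD_eq_default _ _ (Nat.le_of_not_lt h)]; exact chi_zero _ _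
  let Y' : ℕ → Γ := fun s => Y s * sgn z (χ (C.adj.getD s 0))
  have hY'ev : ∀ w, ev Y' w = ev Y w * sgn z (χ (C.adjMask w)) := by
    intro w
    induction w with
    | nil =>
      have hχ : χ 0 = 0 := chi_zero _ _
      simp [Cert.adjMask, hχ, sgn_zero]
    | cons s w ih =>
      rw [ev_cons, ev_cons, ih, Cert.adjMask,
        show χ (Nat.xor _ _) = χ _ + χ _ from chi_xor _ _ _ _, sgn_add hz2]
      simp only [Y', mul_assoc]
      congr 1
      rw [← mul_assoc, comm_center (sgn_mem hzc _), mul_assoc]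
  have hexact : ∀ q ∈ C.rules, ev Y' q.1 = ev Y' q.2 := by
    intro q hq
    simp only [Cert.rules, List.mem_flatMap, List.mem_map, List.mem_range] at hq
    obtain ⟨b, hb, a, ha, rfl⟩ := hq
    have hc := congrArg χ (Nat.eq_of_beq_eq_true (hruleCheck b hb a ha))
    rw [hcomb, show χ (Nat.xor _ _) = χ _ + χ _ from chi_xor _ _ _ _,
      show χ (Nat.xor _ _) = χ _ + χ _ from chi_xor _ _ _ _,
      show χ (bit (num b a)) = k (num b a) from chi_bit _ (hM a b (by omega) hb)] at hc
    rw [hY'ev, hY'ev, ev_cons, ev_cons, ev_nil, mul_one, hR a b (by omega) hb, mul_assoc,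
      ← sgn_add hz2, (CharTwo.add_eq_zero.1 hc)]
  have hY' : ∀ i, σ (Y' i) = x i := fun i => by
    have : σ (sgn z (χ (C.adj.getD i 0))) = 1 := sgn_mem (H := σ.ker) z₀.2 _
    simp only [Y', map_mul, this, mul_one, hY]
  let S := tailSubgroup Y' C.n 0
  have hScard : Nat.card S ≤ 2 ^ C.n :=
    card_tailSubgroup_le Y' hshape hexact C.n 0 (Nat.zero_add _)
  have hmap : S.map σ = tailSubgroup x C.n 0 := by
    rw [show S = Subgroup.closure (Y' '' Set.Ico 0 C.n) from rfl, MonoidHom.map_closure,
      Set.image_image]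
    simp only [hY']
    rfl
  have hinjS : ∀ s ∈ S, σ s = 1 → s = 1 := by
    let f : S → tailSubgroup x C.n 0 := fun s => ⟨σ s, hmap ▸ Subgroup.mem_map_of_mem σ s.2⟩
    have hsur : Function.Surjective f := by
      rintro ⟨g, hg⟩
      rw [← hmap] at hg
      obtain ⟨s, hs, rfl⟩ := hg
      exact ⟨⟨s, hs⟩, rfl⟩
    have hbij : Function.Bijective f :=
      hsur.bijective_of_nat_card_le (hScard.trans hcard)
    intro s hs h1
    have : (⟨s, hs⟩ : S) = 1 := hbij.1 (Subtype.ext (by simp [f, h1]))
    exact congrArg Subtype.val this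
  let H := (tailSubgroup x C.n 0).comap σ
  have hcop : (orderOf z).Coprime H.index := by
    rw [Subgroup.index_comap_of_surjective _ hsurj, hzo]
    exact Nat.prime_two.coprime_iff_not_dvd.mpr hindex
  have h1 := mem_commutator_of_index_coprime H hzc (hcomm z₀.2) hcop
  have h2 : ⁅H, H⁆ ≤ S := by
    rw [Subgroup.commutator_le]
    intro g hg h hh
    have hlift : ∀ g ∈ H, ∃ s ∈ S, s⁻¹ * g ∈ Subgroup.center Γ := by
      intro g hg
      obtain ⟨s, hs, es⟩ : σ g ∈ S.map σ := by rw [hmap]; exact hg
      exact ⟨s, hs, hcen (by rw [MonoidHom.mem_ker, map_mul, map_inv, es, inv_mul_cancel])⟩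
    obtain ⟨g', hg', hkg⟩ := hlift g hg
    obtain ⟨h', hh', hkh⟩ := hlift h hh
    rw [← mul_inv_cancel_left g' g, ← mul_inv_cancel_left h' h]
    have hu' := comm_center hkg
    have hv' := comm_center hkh
    generalize g'⁻¹ * g = u at hu'
    generalize h'⁻¹ * h = v at hv'
    have key : ⁅g' * u, h' * v⁆ = g' * h' * g'⁻¹ * h'⁻¹ := by
      simp only [commutatorElement_def, mul_inv_rev]
      rw [show g' * u * (h' * v) * (u⁻¹ * g'⁻¹) * (v⁻¹ * h'⁻¹) =
        g' * (u * h') * (v * u⁻¹) * g'⁻¹ * v⁻¹ * h'⁻¹ by group, hu' h', hv' u⁻¹,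
        show g' * (h' * u) * (u⁻¹ * v) * g'⁻¹ * v⁻¹ * h'⁻¹ =
        g' * h' * (v * g'⁻¹) * v⁻¹ * h'⁻¹ by group, hv' g'⁻¹]
      group
    rw [key]
    exact S.mul_mem (S.mul_mem (S.mul_mem hg' hh') (S.inv_mem hg')) (S.inv_mem hh')
  have hone : z = 1 := hinjS _ (h2 h1) z₀.2
  rw [hone, orderOf_one] at hzo
  omega

/-- The `2`-part of the multiplier vanishes when there is a certificate. -/
theorem Cert.ker_eq_bot (C : Cert) [Finite Γ] (σ : Γ →* G) (hσ : Cfsg.IsStemExtension σ)
    (hexp : ∀ z ∈ σ.ker, z ^ 2 = 1) (heqs : C.eqsCheck = true) (hlin : C.linCheck = true)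
    (x : ℕ → G) (hrules : ∀ a b, a ≤ b → b < C.n → x b * x a = ev x (C.rule b a))
    (hfus : ∀ F ∈ C.fus, ∃ g : G, ∀ s < 16,
      g * ev x (F.1.getD s []) * g⁻¹ = ev x (F.2.getD s []))
    (hcard : 2 ^ C.n ≤ Nat.card (tailSubgroup x C.n 0))
    (hindex : ¬ 2 ∣ (tailSubgroup x C.n 0).index) : σ.ker = ⊥ := by
  haveI : Fact (Nat.Prime 2) := ⟨Nat.prime_two⟩
  by_contra hne
  obtain ⟨M, hMn, hM, hc⟩ := exists_lift_ker_card_prime σ hσ hexp hne
  exact C.card_ker_ne _ (isStemExtension_lift σ hσ M hM) heqs hlin x hrules hfus hcard hindex hc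

end CfsgLib.Schur.Two
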