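import Cfsg.Agent.BNPairs.Basic
import Mathlib.GroupTheory.GroupAction.Quotient
import Mathlib.GroupTheory.Index
import Mathlib.Data.ZMod.Basic
import Mathlib.Algebra.Group.Action.Hom
import Mathlib.Algebra.Order.BigOperators.Group.Finset

/-!
# Central extensions by a group of order two from a stable extension of a subgroup of odd index

`q : U' →* G` has kernel `{1, z}` and range of odd index.  If for every `g` the part of the
extension over `range ⊓ g range g⁻¹` is carried by conjugation to the extension (`Stable`), then a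
central extension of `G` by a group of order two receives `U'` faithfully on `z`; the construction
is the monomial (transfer) one.  For a Tits system with `B` the range, it is enough that the
elements of `S` are stable.
-/

set_option autoImplicit false
set_option linter.unusedSectionVars false
set_option linter.style.haveILetI false
set_option linter.dupNamespace false

namespace CfsgLib.Schur.Stable

open scoped Classical

variable {G : Type*} [Group G] {U' : Type*} [Group U'] (q : U' →* G) (z : U')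

/-- The part of `U'` over `range ⊓ g range g⁻¹`. -/
def dom (g : G) : Subgroup U' :=
  q.range.comap ((MulAut.conj g⁻¹).toMonoidHom.comp q)

variable {q z}

theorem mem_dom {g : G} {v : U'} : v ∈ dom q g ↔ g⁻¹ * q v * g ∈ q.range := by
  simp [dom]

variable (q z)

/-- Conjugation by `g⁻¹` lifts over `range ⊓ g range g⁻¹`, fixing `z`. -/
def Stable (g : G) : Prop :=
  ∃ φ : dom q g →* U', (∀ v, q (φ v) = g⁻¹ * q (v : U') * g) ∧
    ∀ v : dom q g, (v : U') = z → φ v = z

variable {q z}

theorem stable_map (hz : z ∈ Subgroup.center U') (a : U') : Stable q z (q a) := by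
  refine ⟨(MulAut.conj a⁻¹).toMonoidHom.comp (dom q (q a)).subtype, fun v => by simp, ?_⟩
  intro v hv
  show a⁻¹ * (v : U') * a⁻¹⁻¹ = z
  rw [hv, inv_inv, mul_assoc, ← Subgroup.mem_center_iff.1 hz a, inv_mul_cancel_left]

theorem stable_of_range (hz : z ∈ Subgroup.center U') {g : G} (hg : g ∈ q.range) :
    Stable q z g := by
  obtain ⟨a, rfl⟩ := hg
  exact stable_map hz a

theorem stable_mul {g h : G} (hg : Stable q z g) (hh : Stable q z h)
    (hdom : dom q (g * h) ≤ dom q g) : Stable q z (g * h) := by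
  obtain ⟨φ, hφ, hφz⟩ := hg
  obtain ⟨ψ, hψ, hψz⟩ := hh
  have hmem : ∀ v : dom q (g * h), φ (Subgroup.inclusion hdom v) ∈ dom q h := fun v => by
    rw [mem_dom, hφ]
    have := mem_dom.1 v.2
    simpa [mul_inv_rev, mul_assoc] using this
  refine ⟨ψ.comp ((φ.comp (Subgroup.inclusion hdom)).codRestrict _ hmem), fun v => ?_, ?_⟩
  · simp only [MonoidHom.comp_apply, hψ]
    show h⁻¹ * q (φ (Subgroup.inclusion hdom v)) * h = _
    rw [hφ]
    simp [mul_inv_rev, mul_assoc]
  · intro v hv
    simp only [MonoidHom.comp_apply]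
    refine hψz _ ?_
    show φ (Subgroup.inclusion hdom v) = z
    exact hφz _ hv

/-- For a Tits system the elements of `S` suffice. -/
theorem stable_all (P : Cfsg.BNPair G) (hz : z ∈ Subgroup.center U') (hB : P.B = q.range)
    (hS : ∀ s ∈ P.S, Stable q z s) (g : G) : Stable q z g := by
  have hN : ∀ k n, n ∈ P.N → BNPairs.len P n = k → Stable q z n := by
    intro k
    induction k with
    | zero =>
      intro n hn hk
      exact stable_of_range hz (hB ▸ (BNPairs.len_eq_zero hn).1 hk)
    | succ k ih =>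
      intro n hn hk
      obtain ⟨s, hs, n₁, hn₁, hk₁, hrel⟩ := BNPairs.exists_left_factor hn hk
      have hsN := P.subset hs
      have hlen : BNPairs.len P (s * n₁) = k + 1 := by
        have := BNPairs.len_eq_of_rel (mul_mem hsN hn₁) hn hrel
        omega
      have h1 : Stable q z (s * n₁) := by
        refine stable_mul (hS s hs) (ih n₁ hn₁ hk₁) fun v hv => ?_
        rw [mem_dom, ← hB] at hv ⊢
        set x := q v with hx
        have hxB : x ∈ P.B := hB ▸ ⟨v, rfl⟩
        by_contra hy
        set y := s⁻¹ * x * s with hy'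
        have hy2 : y ∈ BNPairs.cell P s := by
          have e : y = (s * s)⁻¹ * (s * x * s) := by rw [hy']; group
          rcases P.mul_mem_union s hs s hsN x hxB with h | h
          · refine absurd ?_ hy
            rw [e]
            exact mul_mem (inv_mem (P.sq_mem s hs))
              (BNPairs.mem_B_of_mem_cell (P.sq_mem s hs) h)
          · rw [e]
            exact BNPairs.mem_cell_left (inv_mem (P.sq_mem s hs)) h
        obtain ⟨b, hb, b', hb', eb⟩ := BNPairs.mem_cell.1 hy2
        have hu : n₁⁻¹ * y * n₁ ∈ P.B := by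
          rw [hy', show n₁⁻¹ * (s⁻¹ * x * s) * n₁ = (s * n₁)⁻¹ * x * (s * n₁) by group]
          exact hv
        have c1 : y * n₁ ∈ BNPairs.cell P n₁ := by
          rw [show y * n₁ = n₁ * (n₁⁻¹ * y * n₁) by group]
          exact BNPairs.mem_cell_right hu (BNPairs.self_mem_cell n₁)
        have c2 : y * n₁ ∈ BNPairs.cell P (s * n₁) := by
          rw [show y * n₁ = b * (s * b' * n₁) by rw [eb]; group]
          exact BNPairs.mem_cell_left hb (BNPairs.cell_mul_of_le hs hn₁ hb' (by omega))
        have := BNPairs.len_eq_of_rel hn₁ (mul_mem hsN hn₁)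
          (BNPairs.rel_of_mem_cell hn₁ (mul_mem hsN hn₁) c1 c2)
        omega
      rw [show n = (s * n₁) * ((s * n₁)⁻¹ * n) by group]
      refine stable_mul h1 (stable_of_range hz (hB ▸ hrel)) fun v hv => ?_
      rw [mem_dom] at hv ⊢
      obtain ⟨a, ha⟩ : (s * n₁)⁻¹ * n ∈ q.range := hB ▸ hrel
      have e : (s * n₁)⁻¹ * q v * (s * n₁) = q a *
          (((s * n₁) * ((s * n₁)⁻¹ * n))⁻¹ * q v * ((s * n₁) * ((s * n₁)⁻¹ * n))) * (q a)⁻¹ := by
        rw [ha]; group
      rw [e]
      exact mul_mem (mul_mem ⟨a, rfl⟩ hv) (inv_mem ⟨a, rfl⟩)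
  obtain ⟨n, hn, hg⟩ := BNPairs.bruhat (P := P) g
  obtain ⟨b, hb, b', hb', rfl⟩ := BNPairs.mem_cell.1 hg
  rw [hB] at hb hb'
  rw [mul_assoc]
  refine stable_mul (stable_of_range hz hb)
    (stable_mul (hN _ n hn rfl) (stable_of_range hz hb') fun v hv => ?_) fun v _ => ?_
  · rw [mem_dom] at hv ⊢
    rw [show n⁻¹ * q v * n = b' * ((n * b')⁻¹ * q v * (n * b')) * b'⁻¹ by group]
    exact mul_mem (mul_mem hb' hv) (inv_mem hb')
  · rw [mem_dom]
    exact mul_mem (mul_mem (inv_mem hb) ⟨v, rfl⟩) hb

section Transfer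

variable (q)

/-- The coset space. -/
abbrev Cos : Type _ := G ⧸ q.range

variable {q}

/-- The representative of a coset. -/
noncomputable def rep (x : Cos q) : G := x.out

theorem mk_rep (x : Cos q) : (QuotientGroup.mk (rep x) : Cos q) = x := x.out_eq

/-- The Schreier element. -/
noncomputable def schreier (g : G) (x : Cos q) : G := (rep (g • x))⁻¹ * g * rep x

theorem schreier_mul (g h : G) (x : Cos q) :
    schreier (g * h) x = schreier g (h • x) * schreier h x := by
  simp only [schreier, mul_smul]; group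

theorem schreier_one (x : Cos q) : schreier 1 x = 1 := by simp [schreier]

variable (q)

/-- Monomial maps over `G` with coefficients in `U'`. -/
structure Mono where
  g : G
  f : Cos q → U'
  h : ∀ x, q (f x) = schreier g x

variable {q}

@[ext] theorem Mono.ext' {a b : Mono q} (h1 : a.g = b.g) (h2 : a.f = b.f) : a = b := by
  cases a; cases b; cases h1; cases h2; rfl

noncomputable instance : Mul (Mono q) :=
  ⟨fun a b => ⟨a.g * b.g, fun x => a.f (b.g • x) * b.f x, fun x => by
    rw [map_mul, a.h, b.h, schreier_mul]⟩⟩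

noncomputable instance : One (Mono q) :=
  ⟨⟨1, fun _ => 1, fun x => by rw [map_one, schreier_one]⟩⟩

noncomputable instance : Inv (Mono q) :=
  ⟨fun a => ⟨a.g⁻¹, fun x => (a.f (a.g⁻¹ • x))⁻¹, fun x => by
    rw [map_inv, a.h, inv_eq_iff_mul_eq_one, ← schreier_mul, mul_inv_cancel, schreier_one]⟩⟩

theorem Mono.mul_g (a b : Mono q) : (a * b).g = a.g * b.g := rfl

theorem Mono.mul_f (a b : Mono q) (x : Cos q) : (a * b).f x = a.f (b.g • x) * b.f x := rfl

noncomputable instance : Group (Mono q) :=
  Group.ofLeftAxioms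
    (fun a b c => Mono.ext' (mul_assoc _ _ _) (funext fun x => by
      simp only [Mono.mul_f, Mono.mul_g, mul_smul, mul_assoc]))
    (fun a => Mono.ext' (one_mul _) (funext fun _ => one_mul _))
    (fun a => Mono.ext' (inv_mul_cancel _) (funext fun x => by
      show (a.f (a.g⁻¹ • a.g • x))⁻¹ * a.f x = 1
      rw [inv_smul_smul, inv_mul_cancel]))

theorem Mono.one_g : (1 : Mono q).g = 1 := rfl

theorem Mono.inv_g (a : Mono q) : (a⁻¹).g = a.g⁻¹ := rfl

theorem Mono.inv_f (a : Mono q) (x : Cos q) : (a⁻¹).f x = (a.f (a.g⁻¹ • x))⁻¹ := rfl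

/-- The map to the group. -/
noncomputable def projHom : Mono q →* G where
  toFun a := a.g
  map_one' := rfl
  map_mul' _ _ := rfl

instance [Finite G] [Finite U'] : Finite (Mono q) :=
  Finite.of_injective (fun a : Mono q => (a.g, a.f)) fun _ _ h =>
    Mono.ext' (congrArg Prod.fst h) (congrArg Prod.snd h)

variable (z)

/-- The indicator of `z`. -/
noncomputable def ind (v : U') : ZMod 2 := if v = z then 1 else 0

variable {z}

theorem ind_mul (hz1 : z ≠ 1) (hz2 : z * z = 1) {v w : U'} (hv : v = 1 ∨ v = z)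
    (hw : w = 1 ∨ w = z) : ind z (v * w) = ind z v + ind z w := by
  rcases hv with rfl | rfl <;> rcases hw with rfl | rfl <;>
    simp [ind, hz1.symm, hz2, CharTwo.add_self_eq_zero]

variable [Finite G]

/-- The total of the indicators. -/
noncomputable def total (z : U') (a : Mono q) : ZMod 2 :=
  letI := Fintype.ofFinite (Cos q)
  ∑ x, ind z (a.f x)

theorem coord_mem (hker : ∀ v, q v = 1 → v = 1 ∨ v = z) {a : Mono q} (ha : a.g = 1) (x : Cos q) :
    a.f x = 1 ∨ a.f x = z :=
  hker _ (by rw [a.h, ha, schreier_one])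

theorem total_mul (hz1 : z ≠ 1) (hz2 : z * z = 1) (hker : ∀ v, q v = 1 → v = 1 ∨ v = z)
    {a b : Mono q} (ha : a.g = 1) (hb : b.g = 1) : total z (a * b) = total z a + total z b := by
  letI := Fintype.ofFinite (Cos q)
  rw [total, total, total, ← Finset.sum_add_distrib]
  refine Finset.sum_congr rfl fun x _ => ?_
  rw [Mono.mul_f, hb, one_smul, ind_mul hz1 hz2 (coord_mem hker ha x) (coord_mem hker hb x)]

theorem total_conj (hz : z ∈ Subgroup.center U') (hker : ∀ v, q v = 1 → v = 1 ∨ v = z)
    (a : Mono q) {k : Mono q} (hk : k.g = 1) : total z (a * k * a⁻¹) = total z k := by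
  letI := Fintype.ofFinite (Cos q)
  rw [total, total, ← Equiv.sum_comp (MulAction.toPerm (a.g⁻¹)) fun x => ind z (k.f x)]
  refine Finset.sum_congr rfl fun x _ => congrArg _ ?_
  rw [MulAction.toPerm_apply, Mono.mul_f, Mono.mul_f, Mono.inv_g, Mono.inv_f, hk, one_smul]
  have hc : k.f (a.g⁻¹ • x) ∈ Subgroup.center U' := by
    rcases coord_mem hker hk (a.g⁻¹ • x) with e | e <;> rw [e]
    exacts [one_mem _, hz]
  rw [Subgroup.mem_center_iff.1 hc (a.f (a.g⁻¹ • x)), mul_inv_cancel_right]

variable (q z)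

/-- Kernel elements of total zero. -/
noncomputable def small (hz1 : z ≠ 1) (hz2 : z * z = 1)
    (hker : ∀ v, q v = 1 → v = 1 ∨ v = z) : Subgroup (Mono q) where
  carrier := {a | a.g = 1 ∧ total z a = 0}
  one_mem' := ⟨rfl, by
    letI := Fintype.ofFinite (Cos q)
    exact Finset.sum_eq_zero fun x _ => if_neg hz1.symm⟩
  mul_mem' := fun {a b} ha hb => ⟨by rw [Mono.mul_g, ha.1, hb.1, one_mul],
    by rw [total_mul hz1 hz2 hker ha.1 hb.1, ha.2, hb.2, add_zero]⟩
  inv_mem' := fun {a} ha => by
    refine ⟨by rw [Mono.inv_g, ha.1, inv_one], ?_⟩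
    have h := total_mul hz1 hz2 hker (a := a⁻¹) (b := a) (by rw [Mono.inv_g, ha.1, inv_one]) ha.1
    rw [inv_mul_cancel, ha.2, add_zero] at h
    rw [← h]
    letI := Fintype.ofFinite (Cos q)
    exact Finset.sum_eq_zero fun x _ => if_neg hz1.symm

variable {q z}

theorem exists_extension.{u} {G U' : Type u} [Group G] [Group U'] [Finite G] [Finite U']
    {q : U' →* G} {z : U'} (hz : z ∈ Subgroup.center U') (hz1 : z ≠ 1) (hz2 : z * z = 1)
    (hqz : q z = 1) (hker : ∀ v, q v = 1 → v = 1 ∨ v = z) (hodd : Odd q.range.index)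
    (hst : ∀ g, Stable q z g) :
    ∃ (E : Type u) (_ : Group E) (_ : Finite E) (π : E →* G) (ρ : U' →* E),
      Function.Surjective π ∧ π.ker ≤ Subgroup.center E ∧ Nat.card π.ker = 2 ∧
        π.comp ρ = q ∧ ρ z ≠ 1 := by
  letI := Fintype.ofFinite (Cos q)
  haveI hN : (small q z hz1 hz2 hker).Normal := ⟨fun k hk a =>
    ⟨by rw [Mono.mul_g, Mono.mul_g, hk.1, Mono.inv_g, mul_one, mul_inv_cancel],
      by rw [total_conj hz hker a hk.1]; exact hk.2⟩⟩
  -- orbits of the range on the cosets
  let st : Setoid (Cos q) :=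
    { r := fun x y => ∃ a : U', q a • x = y
      iseqv :=
        { refl := fun x => ⟨1, by rw [map_one, one_smul]⟩
          symm := fun {x y} ⟨a, ha⟩ => ⟨a⁻¹, by rw [map_inv, inv_smul_eq_iff, ha]⟩
          trans := fun {x y w} ⟨a, ha⟩ ⟨b, hb⟩ => ⟨b * a, by rw [map_mul, mul_smul, ha, hb]⟩ } }
  let base : Cos q → Cos q := fun x => (Quotient.mk st x).out
  have hbase : ∀ (v : U') x, base (q v • x) = base x := fun v x =>
    congrArg Quotient.out (Quotient.sound (s := st) ⟨v⁻¹, by rw [map_inv, inv_smul_smul]⟩)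
  have hex : ∀ x, ∃ a : U', q a • base x = x := fun x =>
    Quotient.exact (s := st) (Quotient.out_eq (Quotient.mk st x))
  choose a ha using hex
  have hb : ∀ x, ∃ b : U', q b = (rep x)⁻¹ * q (a x) * rep (base x) := fun x => by
    have h : (rep x)⁻¹ * (q (a x) * rep (base x)) ∈ q.range := by
      refine QuotientGroup.eq.1 ?_
      rw [mk_rep, show (QuotientGroup.mk (q (a x) * rep (base x)) : Cos q) =
        q (a x) • (QuotientGroup.mk (rep (base x)) : Cos q) from rfl, mk_rep, ha]
    rw [← mul_assoc] at h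
    exact h
  choose b hb using hb
  choose φ hφ hφz using hst
  let Φ : G → U' → U' := fun g v => if h : v ∈ dom q g then φ g ⟨v, h⟩ else 1
  let hh : U' → Cos q → U' := fun v x => (a (q v • x))⁻¹ * v * a x
  have hdom : ∀ v x, hh v x ∈ dom q (rep (base x)) := fun v x => by
    rw [mem_dom]
    have e : q (hh v x) • base x = base x := by
      simp only [hh, map_mul, map_inv, mul_smul, ha, inv_smul_eq_iff]
      conv_rhs => rw [← hbase v x, ha]
    have h : (rep (base x))⁻¹ * (q (hh v x) * rep (base x)) ∈ q.range := by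
      refine QuotientGroup.eq.1 ?_
      rw [show (QuotientGroup.mk (q (hh v x) * rep (base x)) : Cos q) =
        q (hh v x) • (QuotientGroup.mk (rep (base x)) : Cos q) from rfl, mk_rep, e]
    rwa [← mul_assoc] at h
  have hΦq : ∀ v x, q (Φ (rep (base x)) (hh v x)) =
      (rep (base x))⁻¹ * q (hh v x) * rep (base x) := fun v x => by
    simp only [Φ, dif_pos (hdom v x), hφ]
  let F : U' → Cos q → U' := fun v x =>
    b (q v • x) * Φ (rep (base x)) (hh v x) * (b x)⁻¹
  have hF : ∀ v x, q (F v x) = schreier (q v) x := fun v x => by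
    simp only [F, map_mul, map_inv, hΦq, hb, hh, hbase, schreier]
    group
  have hFmul : ∀ v w x, F (v * w) x = F v (q w • x) * F w x := fun v w x => by
    have e : hh (v * w) x = hh v (q w • x) * hh w x := by
      simp only [hh, map_mul, mul_smul]; group
    have h1 := hdom v (q w • x)
    rw [hbase] at h1
    have eΦ : Φ (rep (base x)) (hh (v * w) x) =
        Φ (rep (base x)) (hh v (q w • x)) * Φ (rep (base x)) (hh w x) := by
      have h2 := hdom w x
      simp only [Φ, dif_pos h1, dif_pos h2, dif_pos (hdom (v * w) x), ← map_mul]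
      exact congrArg _ (Subtype.ext e)
    simp only [F, hbase, map_mul, mul_smul, eΦ]
    group
  let ρ₀ : U' →* Mono q := MonoidHom.mk' (fun v => ⟨q v, F v, hF v⟩) fun v w =>
    Mono.ext' (map_mul q v w) (funext fun x => hFmul v w x)
  let mk := QuotientGroup.mk' (small q z hz1 hz2 hker)
  let π : Mono q ⧸ small q z hz1 hz2 hker →* G :=
    QuotientGroup.lift _ projHom fun k hk => hk.1
  have hρz : total z (ρ₀ z) = 1 := by
    have hF1 : ∀ x, F z x = z := fun x => by
      have e : hh z x = z := by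
        simp only [hh, hqz, one_smul]
        rw [mul_assoc, ← Subgroup.mem_center_iff.1 hz (a x), inv_mul_cancel_left]
      have h1 : Φ (rep (base x)) z = z := by
        simp only [Φ]
        rw [dif_pos (by simpa [e] using hdom z x)]
        exact hφz _ _ rfl
      simp only [F, hqz, one_smul, e, h1]
      rw [Subgroup.mem_center_iff.1 hz (b x), mul_inv_cancel_right]
    show ∑ x, ind z (F z x) = 1
    simp only [hF1, ind, if_pos, Finset.sum_const, Finset.card_univ]
    obtain ⟨m, hm⟩ := hodd
    rw [← Nat.card_eq_fintype_card, ← Subgroup.index, hm, nsmul_one]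
    push_cast
    rw [show (2 : ZMod 2) = 0 from rfl, zero_mul, zero_add]
  have hρz1 : mk (ρ₀ z) ≠ 1 := fun h => by
    rw [QuotientGroup.mk'_apply, QuotientGroup.eq_one_iff] at h
    exact one_ne_zero (α := ZMod 2) (hρz.symm.trans h.2)
  have hzg : (ρ₀ z).g = 1 := hqz
  refine ⟨Mono q ⧸ small q z hz1 hz2 hker, inferInstance, inferInstance, π, mk.comp ρ₀, ?_, ?_,
    ?_, MonoidHom.ext fun v => rfl, hρz1⟩
  · intro g
    have : ∀ x, schreier g x ∈ q.range := fun x => by
      show (rep (q := q) (g • x))⁻¹ * g * rep (q := q) x ∈ q.range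
      rw [mul_assoc]
      refine QuotientGroup.eq.1 ?_
      rw [mk_rep, show (QuotientGroup.mk (g * rep x) : Cos q) =
        g • (QuotientGroup.mk (rep x) : Cos q) from rfl, mk_rep]
    choose f hf using this
    exact ⟨mk ⟨g, f, hf⟩, rfl⟩
  · intro e he
    obtain ⟨k, rfl⟩ := QuotientGroup.mk'_surjective _ e
    have hk : k.g = 1 := he
    rw [Subgroup.mem_center_iff]
    intro y
    obtain ⟨c, rfl⟩ := QuotientGroup.mk'_surjective _ y
    rw [← map_mul, ← map_mul, QuotientGroup.mk'_apply, QuotientGroup.mk'_apply, QuotientGroup.eq]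
    have e1 : (c * k)⁻¹ * (k * c) = k⁻¹ * (c⁻¹ * k * c⁻¹⁻¹) := by group
    rw [e1]
    have hg : (c⁻¹ * k * c⁻¹⁻¹).g = 1 := by
      simp [Mono.mul_g, Mono.inv_g, hk]
    have hki : (k⁻¹).g = 1 := by rw [Mono.inv_g, hk, inv_one]
    refine ⟨by rw [Mono.mul_g, hki, hg, one_mul], ?_⟩
    rw [total_mul hz1 hz2 hker hki hg, total_conj hz hker _ hk, ← total_mul hz1 hz2 hker hki hk,
      inv_mul_cancel]
    exact ((small q z hz1 hz2 hker).one_mem).2
  · have hmem : mk (ρ₀ z) ∈ π.ker := hzg
    rw [Nat.card_eq_two_iff' (⟨mk (ρ₀ z), hmem⟩ : π.ker)]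
    refine ⟨1, fun h => hρz1 (congrArg Subtype.val h).symm, ?_⟩
    rintro ⟨e, he⟩ hne
    obtain ⟨k, rfl⟩ := QuotientGroup.mk'_surjective _ e
    have hk : k.g = 1 := he
    refine Subtype.ext ?_
    show mk k = 1
    rw [QuotientGroup.mk'_apply, QuotientGroup.eq_one_iff]
    refine ⟨hk, ?_⟩
    by_contra h0
    refine hne (Subtype.ext ?_)
    show mk k = mk (ρ₀ z)
    rw [QuotientGroup.mk'_apply, QuotientGroup.mk'_apply, QuotientGroup.eq]
    have hki : (k⁻¹).g = 1 := by rw [Mono.inv_g, hk, inv_one]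
    refine ⟨by rw [Mono.mul_g, hki, hzg, one_mul], ?_⟩
    have h2 := total_mul hz1 hz2 hker hki hk
    rw [inv_mul_cancel, ((small q z hz1 hz2 hker).one_mem).2] at h2
    have h3 : total z k = 1 := by
      revert h0; generalize total z k = c; revert c; decide
    rw [total_mul hz1 hz2 hker hki hzg, hρz]
    rw [h3] at h2
    exact h2.symm

end Transfer

end CfsgLib.Schur.Stable
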