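import Mathlib.GroupTheory.Subgroup.Center
import Mathlib.Algebra.BigOperators.Group.List.Basic
import Mathlib.Algebra.BigOperators.Group.Finset.Basic
import Mathlib.GroupTheory.OrderOfElement

/-!
# Words, rewriting with central tails, and exponent counting

A word is a list of generator indices. A rule `(l, r)` number `i` is read in a group as the equation
`ev y l = ev y r * t i` with `t i` central. Rewriting keeps track of the rules used.
-/

set_option autoImplicit false

namespace CfsgLib.Schur.Pc

/-- Value of a word. -/
def ev {M : Type*} [Monoid M] (y : ℕ → M) (w : List ℕ) : M := (w.map y).prod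

section

variable {M : Type*} [Monoid M] (y : ℕ → M)

@[simp] theorem ev_nil : ev y [] = 1 := rfl

theorem ev_cons (a : ℕ) (w : List ℕ) : ev y (a :: w) = y a * ev y w := List.prod_cons

theorem ev_append (u w : List ℕ) : ev y (u ++ w) = ev y u * ev y w := by
  simp [ev, List.map_append, List.prod_append]

theorem ev_replicate (k a : ℕ) : ev y (List.replicate k a) = y a ^ k := by
  simp [ev]

theorem ev_flatMap (f : ℕ → List ℕ) (w : List ℕ) :
    ev y (w.flatMap f) = ev (fun a => ev y (f a)) w := by
  induction w with
  | nil => rfl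
  | cons a w ih => rw [List.flatMap_cons, ev_append, ih, ev_cons]

theorem map_ev {N : Type*} [Monoid N] (φ : M →* N) (w : List ℕ) :
    φ (ev y w) = ev (fun a => φ (y a)) w := by
  simp [ev, map_list_prod, Function.comp_def]

theorem ev_mem {S : Type*} [SetLike S M] [SubmonoidClass S M] {H : S} {w : List ℕ}
    (h : ∀ a ∈ w, y a ∈ H) : ev y w ∈ H := by
  apply list_prod_mem
  intro b hb
  obtain ⟨a, ha, rfl⟩ := List.mem_map.mp hb
  exact h a ha

end

/-- Rules. -/
abbrev Rules := List (List ℕ × List ℕ)

/-- Apply the first rule matching a prefix of `w`. -/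
def matchHead : Rules → ℕ → List ℕ → Option (ℕ × List ℕ)
  | [], _, _ => none
  | (l, r) :: rs, i, w =>
    if !l.isEmpty && l.isPrefixOf w then some (i, r ++ w.drop l.length)
    else matchHead rs (i + 1) w

/-- Rewrite at the leftmost possible position. -/
def step (rs : Rules) : List ℕ → Option (ℕ × List ℕ)
  | [] => none
  | a :: w =>
    match matchHead rs 0 (a :: w) with
    | some q => some q
    | none => (step rs w).map fun q => (q.1, a :: q.2)

/-- Rewrite repeatedly, recording the rules used. -/
def collect (rs : Rules) : ℕ → List ℕ → List ℕ × List ℕ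
  | 0, w => (w, [])
  | f + 1, w =>
    match step rs w with
    | none => (w, [])
    | some (i, w') => ((collect rs f w').1, i :: (collect rs f w').2)

/-- Apply rule number `q.2` at position `q.1` if it matches, otherwise do nothing. -/
def rewriteAt (rs : Rules) (q : ℕ × ℕ) (w : List ℕ) : List ℕ × List ℕ :=
  match rs[q.2]? with
  | none => (w, [])
  | some (l, r) =>
    if l.isPrefixOf (w.drop q.1) then (w.take q.1 ++ (r ++ (w.drop q.1).drop l.length), [q.2])
    else (w, [])

section

variable {Γ : Type*} [Group Γ] (y t : ℕ → Γ)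

/-- The rules hold in `Γ` up to the central tails `t`. -/
def Holds (rs : Rules) (off : ℕ) : Prop :=
  ∀ i (h : i < rs.length), ev y rs[i].1 = ev y rs[i].2 * t (off + i)

variable {y t}

theorem ev_mem_center (ht : ∀ i, t i ∈ Subgroup.center Γ) (L : List ℕ) :
    ev t L ∈ Subgroup.center Γ :=
  ev_mem t fun a _ => ht a

theorem comm_center {c : Γ} (hc : c ∈ Subgroup.center Γ) (a : Γ) : c * a = a * c :=
  ((Subgroup.mem_center_iff.mp hc) a).symm

theorem matchHead_sound (ht : ∀ i, t i ∈ Subgroup.center Γ) :
    ∀ (rs : Rules) (i : ℕ), Holds y t rs i → ∀ w j w', matchHead rs i w = some (j, w') →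
      ev y w = ev y w' * t j
  | [], _, _, w, j, w', h => by simp [matchHead] at h
  | (l, r) :: rs, i, hh, w, j, w', h => by
    rw [matchHead] at h
    split_ifs at h with hc
    · simp only [Bool.and_eq_true, List.isPrefixOf_iff_prefix] at hc
      obtain ⟨s, rfl⟩ := hc.2
      simp only [Option.some.injEq, Prod.mk.injEq, List.drop_left] at h
      obtain ⟨rfl, rfl⟩ := h
      have h0 := hh 0 (by simp)
      simp only [List.getElem_cons_zero, Nat.add_zero] at h0
      rw [ev_append, ev_append, h0, mul_assoc, mul_assoc, comm_center (ht _)]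
    · refine matchHead_sound ht rs (i + 1) ?_ w j w' h
      intro k hk
      have := hh (k + 1) (by simpa using hk)
      rwa [List.getElem_cons_succ, ← Nat.add_assoc, Nat.add_right_comm] at this

theorem step_sound (ht : ∀ i, t i ∈ Subgroup.center Γ) {rs : Rules} (hh : Holds y t rs 0) :
    ∀ w j w', step rs w = some (j, w') → ev y w = ev y w' * t j
  | [], j, w', h => by simp [step] at h
  | a :: w, j, w', h => by
    rw [step] at h
    split at h
    · rename_i q hq
      simp only [Option.some.injEq] at h
      subst h
      exact matchHead_sound ht rs 0 hh _ _ _ hq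
    · rw [Option.map_eq_some_iff] at h
      obtain ⟨⟨j', w''⟩, h1, h2⟩ := h
      simp only [Prod.mk.injEq] at h2
      obtain ⟨rfl, rfl⟩ := h2
      rw [ev_cons, ev_cons, step_sound ht hh w _ _ h1, mul_assoc]

theorem collect_sound (ht : ∀ i, t i ∈ Subgroup.center Γ) {rs : Rules} (hh : Holds y t rs 0) :
    ∀ f w, ev y w = ev y (collect rs f w).1 * ev t (collect rs f w).2
  | 0, w => by simp [collect]
  | f + 1, w => by
    rw [collect]
    split
    · simp
    · rename_i i w' hs
      rw [step_sound ht hh w i w' hs, ev_cons, collect_sound ht hh f w', mul_assoc]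
      congr 1
      exact (comm_center (ht i) _).symm

theorem rewriteAt_sound (ht : ∀ i, t i ∈ Subgroup.center Γ) {rs : Rules} (hh : Holds y t rs 0)
    (q : ℕ × ℕ) (w : List ℕ) :
    ev y w = ev y (rewriteAt rs q w).1 * ev t (rewriteAt rs q w).2 := by
  rw [rewriteAt]
  split
  · simp
  · rename_i l r hr
    split_ifs with hc
    · rw [List.isPrefixOf_iff_prefix] at hc
      obtain ⟨s, hs⟩ := hc
      obtain ⟨hlt, hget⟩ := List.getElem?_eq_some_iff.mp hr
      have h0 := hh q.2 hlt
      rw [hget, Nat.zero_add] at h0
      conv_lhs => rw [← List.take_append_drop q.1 w, ← hs, ev_append, ev_append, h0]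
      rw [← hs, List.drop_left, ev_append, ev_append]
      simp only [ev_cons, ev_nil, mul_one]
      simp only [mul_assoc]
      rw [comm_center (ht q.2) (ev y s)]
    · simp

end

/-- The exponents in `T` weighted by `m`, plus those in `A`, agree modulo `q` with the same
combination of `T'` and `A'`; all entries are below `M`. -/
def countsEq (m q M : ℕ) (T A T' A' : List ℕ) : Bool :=
  ((T ++ A) ++ (T' ++ A')).all (fun a => decide (a < M)) &&
    (List.range M).all
      (fun i => (m * T.count i + A.count i) % q == (m * T'.count i + A'.count i) % q)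

theorem prod_eq_prod_range {A : Type*} [CommGroup A] (t : ℕ → A) {M : ℕ}
    (L : List ℕ) (hL : ∀ a ∈ L, a < M) :
    ev t L = ∏ i ∈ Finset.range M, t i ^ L.count i := by
  rw [ev, Finset.prod_list_map_count, Finset.prod_subset (s₂ := Finset.range M)]
  · intro i hi
    exact Finset.mem_range.mpr (hL i (List.mem_toFinset.mp hi))
  · intro i _ hi
    rw [List.count_eq_zero_of_not_mem fun h => hi (List.mem_toFinset.mpr h), pow_zero]

theorem ev_eq_of_countsEq {A : Type*} [CommGroup A] {t : ℕ → A} {m q M : ℕ}
    (hq : ∀ i, t i ^ q = 1) {T B T' B' : List ℕ} (h : countsEq m q M T B T' B' = true) :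
    ev t T ^ m * ev t B = ev t T' ^ m * ev t B' := by
  simp only [countsEq, Bool.and_eq_true, List.all_eq_true, decide_eq_true_eq, beq_iff_eq,
    List.mem_range, List.mem_append] at h
  obtain ⟨h1, h2⟩ := h
  rw [prod_eq_prod_range t T fun a ha => h1 a (Or.inl (Or.inl ha)),
    prod_eq_prod_range t B fun a ha => h1 a (Or.inl (Or.inr ha)),
    prod_eq_prod_range t T' fun a ha => h1 a (Or.inr (Or.inl ha)),
    prod_eq_prod_range t B' fun a ha => h1 a (Or.inr (Or.inr ha)),
    ← Finset.prod_pow, ← Finset.prod_pow, ← Finset.prod_mul_distrib, ← Finset.prod_mul_distrib]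
  refine Finset.prod_congr rfl fun i hi => ?_
  rw [← pow_mul, ← pow_add, ← pow_mul, ← pow_add]
  apply pow_eq_pow_of_modEq _ (hq i)
  have := h2 i (Finset.mem_range.mp hi)
  rw [Nat.mul_comm (T.count i), Nat.mul_comm (T'.count i)]
  exact this

end CfsgLib.Schur.Pc
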