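import Cfsg.Agent.Schur.PcPerm

/-! Data: Sylow subgroups of M11 with fusion, showing that the Schur multiplier is trivial. -/

set_option autoImplicit false

namespace CfsgLib.Schur.M11Data

open CfsgLib.Schur.Pc

/-- Certificate for the prime 2. -/
def cert2 : Cert where
  p := 2
  n := 4
  rules := [([0, 0], [3]), ([1, 1], []), ([2, 2], [3]), ([3, 3], []), ([1, 0], [0, 1, 2, 3]), ([2, 0], [0, 2, 3]), ([3, 0], [0, 3]), ([2, 1], [1, 2, 3]), ([3, 1], [1, 3]), ([3, 2], [2, 3])]
  fus := [([[3], [3]], [[1, 2], [1, 2]])]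
  fusW := 2
  assoc := [([0, 0, 0], (0, 0), (1, 0)), ([1, 1, 0], (0, 1), (1, 4)), ([2, 2, 2], (0, 2), (1, 2)), ([2, 2, 0], (0, 2), (1, 5)), ([2, 2, 1], (0, 2), (1, 7)), ([1, 0, 0], (0, 4), (1, 0))]
  fusEq := [(0, [1, 1], [])]
  eqs := [([0, 6], [0]), ([1], [4, 4, 8, 7, 1, 3, 2, 3]), ([2, 9], [2]), ([2, 6], [5, 5, 9, 2, 3]), ([2, 8], [7, 7, 9, 2, 3]), ([4, 6, 5, 4, 0, 8, 9, 3, 2, 3], [0]), ([7, 1, 9, 2, 3, 11, 11], [3])]
  e := 1
  adj := [[0, 2], [], [2, 2, 4, 4], [2, 2]]
  combo := [[], [(0, 1), (1, 1), (2, 1), (3, 1), (4, 1), (6, 1)], [], [(0, 1), (2, 1), (3, 1)], [], [(2, 1), (3, 1), (4, 1), (5, 1)], [(0, 1)], [(0, 1), (1, 1), (3, 1), (4, 1)], [(0, 1), (3, 1), (4, 1)], [(2, 1)]]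
  fuel := 11

/-- Tables of the generators. -/
def cert2Xs : List ℕ := [271638598014143215063036521584958528075536159827915178496, 541648530818808409772485512420171034625065460831926354176, 540786488923823349143018779670023425612244247007094573056, 344723597710724981991573498078994302198752262648505107456]

/-- Tables of the conjugating elements. -/
def cert2Gs : List ℕ := [540499888464050369007873238721449034456998317619975424256]

/-- Base positions. -/
def cert2Base : List ℕ := [1, 2]

/-- Certificate for the prime 3. -/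
def cert3 : Cert where
  p := 3
  n := 2
  rules := [([0, 0, 0], []), ([1, 1, 1], []), ([1, 0], [0, 1])]
  fus := [([[0, 0, 1, 1], [1]], [[1], [0, 0, 1]]), ([[0, 0, 1, 1], [0, 0]], [[1], [0, 0, 1, 1]])]
  fusW := 2
  assoc := []
  fusEq := [(0, [0, 1], [1, 0]), (0, [1, 1, 1], []), (1, [1, 1, 1], [])]
  eqs := [([2, 2, 3, 4, 2, 2, 1], [4, 3, 1]), ([2, 0, 2, 2, 2, 2, 2, 0, 1, 4, 4, 4], [1]), ([2, 2, 0, 2, 2, 1, 2, 2, 0, 1, 6, 6, 6], [0, 0])]
  e := 0
  adj := [[], []]
  combo := [[(1, 2)], [(2, 2)], [(0, 1)]]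
  fuel := 14

/-- Tables of the generators. -/
def cert3Xs : List ℕ := [173084105919658439110420676650969425195807377136841982976, 492507635506987869543503813177830376224987727200797590016]

/-- Tables of the conjugating elements. -/
def cert3Gs : List ℕ := [467509561931860312377878348816202529529563194043253523456, 467509561931860312377878348816202529529563194043253523456]

/-- Base positions. -/
def cert3Base : List ℕ := [1]

/-- Tables of elements of order 5, 11. -/
def cycXs : List ℕ := [246261142123163793315489294258597639448355095954541577216, 492033989081933923473403294608738260350918890370510949376]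

end CfsgLib.Schur.M11Data
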