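import Cfsg.Agent.Schur.PcPerm

/-! Data: Sylow subgroups of M23 with fusion, showing that the Schur multiplier is trivial. -/

set_option autoImplicit false

namespace CfsgLib.Schur.M23Data

open CfsgLib.Schur.Pc

/-- Certificate for the prime 2. -/
def cert2 : Cert where
  p := 2
  n := 7
  rules := [([0, 0], []), ([1, 1], [4]), ([2, 2], []), ([3, 3], []), ([4, 4], []), ([5, 5], []), ([6, 6], []), ([1, 0], [0, 1, 2, 5, 6]), ([2, 0], [0, 2]), ([3, 0], [0, 3, 5, 6]), ([4, 0], [0, 4, 5]), ([5, 0], [0, 5]), ([6, 0], [0, 6]), ([2, 1], [1, 2, 5, 6]), ([3, 1], [1, 3, 4]), ([4, 1], [1, 4]), ([5, 1], [1, 5, 6]), ([6, 1], [1, 6]), ([3, 2], [2, 3, 5]), ([4, 2], [2, 4, 6]), ([5, 2], [2, 5]), ([6, 2], [2, 6]), ([4, 3], [3, 4]), ([5, 3], [3, 5]), ([6, 3], [3, 6]), ([5, 4], [4, 5]), ([6, 4], [4, 6]), ([6, 5], [5, 6])]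
  fus := [([[1, 2, 3, 6], [1, 2, 3, 6]], [[4, 6], [4, 6]]), ([[1, 2, 3, 6], [1, 2, 3, 4, 5, 6]], [[4, 6], [3]]), ([[1, 2, 3, 6], [1, 2, 3, 6]], [[0, 5], [0, 5]]), ([[1, 2, 3, 6], [1, 2, 3, 4, 5, 6]], [[6], [1, 2, 3, 4, 5]]), ([[1, 2, 3, 6], [1, 2, 3, 6]], [[2], [2]]), ([[2], [0], [3], [4], [6], [5]], [[0, 5], [0, 2, 6], [3], [4], [5], [5, 6]])]
  fusW := 6
  assoc := [([1, 1, 1], (0, 1), (1, 1)), ([1, 1, 0], (0, 1), (1, 7)), ([2, 2, 1], (0, 2), (1, 13)), ([3, 3, 0], (0, 3), (1, 9)), ([3, 3, 1], (0, 3), (1, 14)), ([3, 3, 2], (0, 3), (1, 18)), ([4, 4, 0], (0, 4), (1, 10)), ([4, 4, 2], (0, 4), (1, 19)), ([5, 5, 1], (0, 5), (1, 16)), ([1, 0, 0], (0, 7), (1, 0)), ([3, 0, 0], (0, 9), (1, 0)), ([4, 0, 0], (0, 10), (1, 0)), ([2, 1, 1], (0, 13), (1, 1)), ([2, 1, 0], (0, 13), (1, 7)), ([3, 1, 0], (0, 14), (1, 7)), ([4, 1, 0], (0, 15), (1, 7)), ([6, 1, 1], (0, 17), (1, 1)), ([6, 1, 0], (0, 17), (1, 7))]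
  fusEq := [(0, [1, 1], []), (1, [1, 1], []), (2, [1, 1], []), (3, [0, 1], [1, 0]), (4, [1, 1], []), (5, [2, 0], [0, 2, 5]), (5, [3, 0], [0, 3, 4]), (5, [2, 1], [1, 2, 4, 5])]
  eqs := [([1, 15], [1]), ([1, 10], [7, 7, 17, 16, 13, 1, 19, 27, 6, 5, 6, 19, 2, 27, 6]), ([2], [13, 13, 21, 20, 2, 27, 5, 6]), ([3], [9, 9, 24, 23, 3, 27, 5, 6]), ([3], [14, 14, 22, 3, 4]), ([3], [18, 18, 23, 3, 5]), ([4], [10, 10, 25, 4, 5]), ([4], [19, 19, 26, 4, 6]), ([5], [16, 16, 27, 5, 6]), ([7, 12, 11, 8, 7, 0, 21, 20, 2, 27, 5, 6], [0]), ([9, 12, 11, 9, 0, 27, 5, 6], [0]), ([10, 11, 10, 0, 5], [0]), ([13, 17, 16, 13, 1, 19, 27, 6, 5, 6], [1]), ([13, 12, 11, 8, 7, 21, 20, 2, 27, 5, 6], [7, 8, 13, 21, 20, 2, 27, 5, 6]), ([14, 10, 9, 7, 24, 23, 27, 5, 6], [7, 9, 17, 16, 14, 6, 20, 19, 18, 25, 27, 5, 27, 6]), ([15, 10, 7, 26, 25, 27, 5], [7, 10, 16, 15, 21, 20, 19, 27, 6, 5]), ([17, 17, 1], [1, 26]), ([17, 12, 7, 6], [7, 12,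 17, 21, 27, 6]), ([26, 4, 6, 29, 29], [17, 14, 13, 1, 19, 27, 6, 23, 22, 25, 4, 21, 20, 18, 2, 5, 24, 3, 6]), ([3, 35, 35], [17, 16, 15, 14, 13, 1, 19, 27, 6, 23, 22, 25, 4, 25, 5, 6, 19, 18, 2, 25, 24, 23, 22, 3, 26, 25, 4, 27, 5, 6]), ([11, 0, 5, 41, 41], [17, 14, 13, 1, 19, 27, 6, 23, 22, 25, 4, 21, 20, 18, 2, 5, 24, 3, 6]), ([17, 21, 24, 26, 27, 46, 47, 17, 16, 15, 14, 13, 1, 19, 27, 6, 23, 22, 25, 4, 25, 5, 6, 19, 18, 2, 25, 24, 23, 22, 3, 6], [47, 46, 17, 14, 13, 1, 19, 27, 6, 23, 22, 25, 4, 21, 20, 18, 2, 5, 24, 3, 26, 27, 6]), ([2, 53, 53], [17, 14, 13, 1, 19, 27, 6, 23, 22, 25, 4, 21, 20, 18, 2, 5, 24, 3, 6]), ([9, 27, 5, 60, 58], [23, 5, 58, 60, 63, 18]), ([10, 5, 61, 58], [25, 5, 58, 61, 62, 19]), ([9, 21, 20, 18, 5, 6, 60, 59, 27], [24, 27, 27, 5, 6, 59, 60, 62, 63, 9])]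
  e := 0
  adj := [[], [], [7, 9], [], [1], [10], [9, 10]]
  combo := [[(0, 1), (2, 1), (3, 1), (4, 1), (8, 1), (10, 1), (11, 1), (12, 1), (13, 1), (16, 1), (17, 1), (18, 1), (20, 1), (21, 1)], [], [(0, 1), (2, 1), (3, 1), (4, 1), (8, 1), (10, 1), (12, 1), (13, 1), (16, 1), (17, 1), (18, 1), (21, 1), (22, 1)], [(2, 1), (3, 1), (5, 1), (7, 1), (10, 1), (12, 1), (13, 1), (15, 1), (17, 1), (18, 1), (19, 1), (21, 1)], [(0, 1), (2, 1), (3, 1), (4, 1), (7, 1), (8, 1), (10, 1), (12, 1), (13, 1), (16, 1), (17, 1), (21, 1)], [(8, 1), (10, 1), (13, 1)], [(7, 1), (16, 1)], [], [(0, 1), (3, 1), (4, 1), (8, 1), (9, 1), (10, 1), (12, 1), (16, 1), (17, 1), (18, 1), (21, 1), (22, 1)], [], [], [(8, 1), (10, 1), (11, 1), (13, 1)], [(8, 1), (10, 1), (11, 1)], [(0, 1), (1, 1), (4, 1), (6, 1), (8, 1), (16, 1), (17, 1), (18, 1), (21, 1), (22, 1), (23, 1), (24, 1), (25, 1)], [(0, 1), (1, 1), (2, 1), (5, 1), (6, 1), (8, 1), (10,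 1), (12, 1), (13, 1), (14, 1), (16, 1), (17, 1), (19, 1)], [(0, 1)], [(3, 1), (7, 1), (10, 1), (13, 1), (15, 1), (23, 1), (24, 1), (25, 1)], [(2, 1), (6, 1), (8, 1), (10, 1), (12, 1), (13, 1), (15, 1), (16, 1)], [(2, 1), (3, 1), (6, 1), (8, 1), (12, 1), (14, 1), (17, 1)], [(2, 1), (3, 1), (6, 1), (8, 1), (10, 1), (13, 1), (23, 1), (24, 1), (25, 1)], [(2, 1), (7, 1), (8, 1), (10, 1), (13, 1), (16, 1), (17, 1)], [(7, 1), (8, 1), (16, 1), (17, 1)], [(0, 1), (2, 1), (3, 1), (7, 1), (8, 1), (10, 1), (12, 1), (13, 1), (16, 1), (17, 1), (21, 1)], [(5, 1), (8, 1), (10, 1), (13, 1)], [(3, 1), (5, 1), (8, 1)], [(6, 1), (8, 1), (10, 1), (13, 1)], [(16, 1)], [(7, 1), (8, 1), (16, 1)]]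
  fuel := 33

/-- Tables of the generators. -/
def cert2Xs : List ℕ := [565497983904634794766685226103129519870508760131413606401, 564822281949795751682630790604648281250367246340469295616, 565302683417869369105519462191237103363052709644385520131, 564828266741487867927375996382149362341085431273515062016, 564253586868274251248688486436637188227796379364070592256, 564825653685031582836798623099511012044101670178174144261, 564247574221993404855820998570300771589050191587993326606]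

/-- Tables of the conjugating elements. -/
def cert2Gs : List ℕ := [565015713124319285167707340817970896680552447236948235266, 565015713124319285167707340817970896680552447236948235266, 566071931622529242465173961043482750880575139101066662931, 563963613159936260995847024383481643529850214925589418261, 565017585284791705428416700341028538111656907830488077326, 565402954088260235959643568883465475474761226235320340741]

/-- Base positions. -/
def cert2Base : List ℕ := [0, 1]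

/-- Certificate for the prime 3. -/
def cert3 : Cert where
  p := 3
  n := 2
  rules := [([0, 0, 0], []), ([1, 1, 1], []), ([1, 0], [0, 1])]
  fus := [([[0, 1, 1]], [[0, 0, 1, 1]]), ([[0, 1, 1]], [[0, 1]]), ([[0, 0, 1], [0, 0]], [[0, 0, 1, 1], [0, 0]])]
  fusW := 2
  assoc := []
  fusEq := [(0, [0, 0, 0], []), (1, [0, 0, 0], []), (2, [0, 1], [1, 0])]
  eqs := [([2, 2, 0, 2, 2, 1, 2, 2, 0, 1, 3, 3, 3], [2, 2, 1, 2, 0, 1]), ([2, 2, 2, 0, 1, 5, 5, 5], [2, 2, 1, 2, 0, 1]), ([2, 2, 0, 2, 2, 7, 8, 0], [0, 8, 7, 2, 0, 2])]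
  e := 0
  adj := [[], []]
  combo := [[(0, 1)], [(1, 2)], [(2, 2)]]
  fuel := 14

/-- Tables of the generators. -/
def cert3Xs : List ℕ := [566068928288246331442956284696496929424646724090313247746, 566068931211361107795727339806677867734642586279874398721]

/-- Tables of the conjugating elements. -/
def cert3Gs : List ℕ := [566073051144402219776207650408670871612051348837009327366, 565497228268192512721763584652017810003190073327226063371, 565592635095077648298140623922733970697920630158727973376]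

/-- Base positions. -/
def cert3Base : List ℕ := [0]

/-- Tables of elements of order 5, 7, 11, 23. -/
def cycXs : List ℕ := [565012334206617028608540009614764515301811089069682528271, 564058644466603669601580355323012935639208277653458849796, 565591904321734704126173616291349455606810380270195116041, 564824879072303994467213568632332331778083953721226888711]

end CfsgLib.Schur.M23Data
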