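import Cfsg.Agent.Schur.PermCertSep
import Cfsg.Agent.CosetEnum.Engine

/-!
The same checks on permutation certificates, with every step of a walk evaluated before the next one.
-/

set_option autoImplicit false

namespace CfsgLib.Schur.PermCert

open CfsgLib.CosetEnum

/-- A walk with each step evaluated. -/
def walkF (tab : ℕ → ℕ → ℕ) : List ℕ → ℕ → ℕ
  | [], i => i
  | x :: w, i => force (tab x i) (walkF tab w)

theorem walkF_eq (tab : ℕ → ℕ → ℕ) : ∀ (w : List ℕ) (i : ℕ), walkF tab w i = Based.walkTab tab w i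
  | [], _ => rfl
  | x :: w, i => by rw [walkF, force_eq, walkF_eq tab w]; rfl

/-- `Based.same` with evaluated walks. -/
def sameF (tab : ℕ → ℕ → ℕ) (base u v : List ℕ) : Bool :=
  base.all fun b => Nat.beq (walkF tab u b) (walkF tab v b)

theorem sameF_eq (tab : ℕ → ℕ → ℕ) (base u v : List ℕ) : sameF tab base u v = Based.same tab base u v := by
  simp only [sameF, Based.same, walkF_eq]

/-- `oddSepOk` with evaluated walks. -/
def oddSepOkF (C : Pc.Cert) (W gs : List (List ℕ)) (sep : List (ℕ × ℕ × List ℕ))
    (tab : ℕ → ℕ → ℕ) (N : ℕ) (base : List ℕ) : Bool :=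
  C.rules.all (fun l => sameF tab base (Based.expand W l.1) (Based.expand W l.2)) &&
    ((List.range C.fus.length).all fun f => (List.range C.fusW).all fun s =>
      sameF tab base (gs.getD f [] ++ Based.expand W ((C.fus.getD f ([], [])).1.getD s []))
        (Based.expand W ((C.fus.getD f ([], [])).2.getD s []) ++ gs.getD f [])) &&
    (Nat.beq W.length C.n && (List.range C.n).all fun i =>
      Based.inMask (sep.getD i (0, 0, [])).2.1 (sep.getD i (0, 0, [])).1 &&
      !Based.inMask (sep.getD i (0, 0, [])).2.1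
        (walkF tab (W.getD i []) (sep.getD i (0, 0, [])).1) &&
      Nat.blt (sep.getD i (0, 0, [])).1 N &&
      (Nat.beq ((sep.getD i (0, 0, [])).2.2.foldl (fun acc j => Nat.lor acc (Nat.shiftLeft 1 j)) 0)
          (sep.getD i (0, 0, [])).2.1 &&
        (sep.getD i (0, 0, [])).2.2.all fun j => Nat.blt j N &&
          (W.drop (i + 1)).all fun w => Based.inMask (sep.getD i (0, 0, [])).2.1 (walkF tab w j)))

theorem oddSepOkF_eq (C : Pc.Cert) (W gs : List (List ℕ)) (sep : List (ℕ × ℕ × List ℕ))
    (tab : ℕ → ℕ → ℕ) (N : ℕ) (base : List ℕ) :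
    oddSepOkF C W gs sep tab N base = oddSepOk C W gs sep tab N base := by
  simp only [oddSepOkF, oddSepOk, sepOk, Based.closedCheck, sameF_eq, walkF_eq]

end CfsgLib.Schur.PermCert
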