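import Cfsg.Agent.Schur.PcClosure

/-!
# A quick check that rules given by a table are shaped
-/

set_option autoImplicit false

namespace CfsgLib.Schur.Pc

/-- The rules of a table. -/
def rulesOf (n : ℕ) (rule : ℕ → ℕ → List ℕ) : Rules :=
  (List.range n).flatMap fun b => (List.range (b + 1)).map fun a => ([b, a], rule b a)

/-- One entry of a table: a power rule on the diagonal, a commutation rule below it. -/
def entryChk (n : ℕ) (rule : ℕ → ℕ → List ℕ) (b a : ℕ) : Bool :=
  bif Nat.beq b a then (rule b a).all fun x => Nat.blt a x && Nat.blt x n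
  else match rule b a with
    | [] => false
    | r :: w => Nat.beq r a && w.all fun x => Nat.blt a x && Nat.blt x n

/-- All entries of a table. -/
def tableChk (n : ℕ) (rule : ℕ → ℕ → List ℕ) : Bool :=
  (List.range n).all fun b => (List.range (b + 1)).all fun a => entryChk n rule b a

theorem shaped_rulesOf {n : ℕ} {rule : ℕ → ℕ → List ℕ} (h : tableChk n rule = true) :
    shaped 2 n (rulesOf n rule) = true := by
  simp only [tableChk, List.all_eq_true, List.mem_range] at h
  simp only [shaped, rulesOf, Bool.and_eq_true, Bool.or_eq_true, decide_eq_true_eq,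
    List.all_eq_true, List.any_eq_true, List.mem_flatMap, List.mem_map, List.mem_range,
    beq_iff_eq]
  refine ⟨two_pos, fun i hi => ⟨?_, fun j hj => ?_⟩⟩
  · have e := h i hi i (Nat.lt_succ_self i)
    rw [entryChk, Nat.beq_refl, cond_true] at e
    simp only [List.all_eq_true, Bool.and_eq_true] at e
    exact ⟨([i, i], rule i i), ⟨i, hi, i, Nat.lt_succ_self i, rfl⟩, rfl, fun x hx =>
      ⟨Nat.le_of_ble_eq_true (e x hx).1, Nat.le_of_ble_eq_true (e x hx).2⟩⟩
  · by_cases hji : j ≤ i
    · exact Or.inl hji
    have e := h j hj i (by omega)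
    rw [entryChk, show Nat.beq j i = false from
      Bool.eq_false_iff.2 fun hb => hji (Nat.eq_of_beq_eq_true hb).le, cond_false] at e
    refine Or.inr ⟨([j, i], rule j i), ⟨j, hj, i, by omega, rfl⟩, ?_⟩
    revert e
    generalize rule j i = w
    cases w with
    | nil => simp
    | cons r w =>
      simp only [Bool.and_eq_true, List.all_eq_true, List.head?_cons, List.tail_cons,
        Option.some.injEq, true_and]
      rintro ⟨hr, hw⟩
      exact ⟨Nat.eq_of_beq_eq_true hr, fun x hx =>
        ⟨Nat.le_of_ble_eq_true (hw x hx).1, Nat.le_of_ble_eq_true (hw x hx).2⟩⟩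

end CfsgLib.Schur.Pc
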