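import Cfsg.Agent.Schur.StableExtension

/-!
# Stable extensions of a subgroup of the Borel subgroup of a Tits system

As `Stable.stable_all`, when the range of the extension is a subgroup of `B` to which every
conjugate of it inside `B` returns, for example a normal Sylow subgroup.
-/

set_option autoImplicit false
set_option linter.unusedSectionVars false

namespace CfsgLib.Schur.Stable

variable {G : Type*} [Group G] {U' : Type*} [Group U'] {q : U' →* G} {z : U'}

/-- For a Tits system the elements of `S` suffice. -/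
theorem stable_all_of (P : Cfsg.BNPair G) (hB : q.range ≤ P.B)
    (hconj : ∀ x ∈ q.range, ∀ g : G, g⁻¹ * x * g ∈ P.B → g⁻¹ * x * g ∈ q.range)
    (hBst : ∀ b ∈ P.B, Stable q z b)
    (hS : ∀ s ∈ P.S, Stable q z s) (g : G) : Stable q z g := by
  have hdB : ∀ (g : G) (v : U'), v ∈ dom q g ↔ g⁻¹ * q v * g ∈ P.B := fun g v =>
    ⟨fun h => hB (mem_dom.1 h), fun h => mem_dom.2 (hconj _ ⟨v, rfl⟩ g h)⟩
  have hN : ∀ k n, n ∈ P.N → BNPairs.len P n = k → Stable q z n := by
    intro k
    induction k with
    | zero =>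
      intro n hn hk
      exact hBst _ ((BNPairs.len_eq_zero hn).1 hk)
    | succ k ih =>
      intro n hn hk
      obtain ⟨s, hs, n₁, hn₁, hk₁, hrel⟩ := BNPairs.exists_left_factor hn hk
      have hsN := P.subset hs
      have hlen : BNPairs.len P (s * n₁) = k + 1 := by
        have := BNPairs.len_eq_of_rel (mul_mem hsN hn₁) hn hrel
        omega
      have h1 : Stable q z (s * n₁) := by
        refine stable_mul (hS s hs) (ih n₁ hn₁ hk₁) fun v hv => ?_
        rw [hdB] at hv ⊢
        set x := q v with hx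
        have hxB : x ∈ P.B := hB ⟨v, rfl⟩
        by_contra hy
        set y := s⁻¹ * x * s with hy'
        have hy2 : y ∈ BNPairs.cell P s := by
          have e : y = (s * s)⁻¹ * (s * x * s) := by rw [hy']; group
          rcases P.mul_mem_union s hs s hsN x hxB with h | h
          · refine absurd ?_ hy
            rw [e]
            exact mul_mem (inv_mem (P.sq_mem s hs))
              (BNPairs.mem_B_of_mem_cell (P.sq_mem s hs) h)
          · rw [e]
            exact BNPairs.mem_cell_left (inv_mem (P.sq_mem s hs)) h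
        obtain ⟨b, hb, b', hb', eb⟩ := BNPairs.mem_cell.1 hy2
        have hu : n₁⁻¹ * y * n₁ ∈ P.B := by
          rw [hy', show n₁⁻¹ * (s⁻¹ * x * s) * n₁ = (s * n₁)⁻¹ * x * (s * n₁) by group]
          exact hv
        have c1 : y * n₁ ∈ BNPairs.cell P n₁ := by
          rw [show y * n₁ = n₁ * (n₁⁻¹ * y * n₁) by group]
          exact BNPairs.mem_cell_right hu (BNPairs.self_mem_cell n₁)
        have c2 : y * n₁ ∈ BNPairs.cell P (s * n₁) := by
          rw [show y * n₁ = b * (s * b' * n₁) by rw [eb]; group]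
          exact BNPairs.mem_cell_left hb (BNPairs.cell_mul_of_le hs hn₁ hb' (by omega))
        have := BNPairs.len_eq_of_rel hn₁ (mul_mem hsN hn₁)
          (BNPairs.rel_of_mem_cell hn₁ (mul_mem hsN hn₁) c1 c2)
        omega
      rw [show n = (s * n₁) * ((s * n₁)⁻¹ * n) by group]
      refine stable_mul h1 (hBst _ hrel) fun v hv => ?_
      rw [hdB] at hv ⊢
      set a := (s * n₁)⁻¹ * n with ha
      have e : (s * n₁)⁻¹ * q v * (s * n₁) =
          a * (((s * n₁) * a)⁻¹ * q v * ((s * n₁) * a)) * a⁻¹ := by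
        group
      rw [e]
      exact mul_mem (mul_mem hrel hv) (inv_mem hrel)
  obtain ⟨n, hn, hg⟩ := BNPairs.bruhat (P := P) g
  obtain ⟨b, hb, b', hb', rfl⟩ := BNPairs.mem_cell.1 hg
  rw [mul_assoc]
  refine stable_mul (hBst b hb)
    (stable_mul (hN _ n hn rfl) (hBst b' hb') fun v hv => ?_) fun v _ => ?_
  · rw [hdB] at hv ⊢
    rw [show n⁻¹ * q v * n = b' * ((n * b')⁻¹ * q v * (n * b')) * b'⁻¹ by group]
    exact mul_mem (mul_mem hb' hv) (inv_mem hb')
  · rw [hdB]
    exact mul_mem (mul_mem (inv_mem hb) (hB ⟨v, rfl⟩)) hb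


end CfsgLib.Schur.Stable
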