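import Cfsg.Agent.Schur.Basic
import Cfsg.Agent.Schur.PcClosure
import Mathlib.Data.List.GetD
import Mathlib.GroupTheory.QuotientGroup.Basic

/-!
# Certificates for stable classes with values in cyclic groups of order two and four

The kernel of a stem extension has exponent `2 ^ k`, `k = 1, 2`.  A certificate shows that lifts of
the generators of a power-commutator presented subgroup of odd index can be adjusted so that the
`q`-th power of each tail is a power of the `q`-th power of one element.  Linear forms in the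
unknown kernel elements are packed, three bits to an unknown.
-/

set_option autoImplicit false
set_option linter.style.haveILetI false

namespace CfsgLib.Schur.Tail

open CfsgLib.Schur.Pc

/-- The digit mask repeated `n` times. -/
def maskOf (c : ℕ) : ℕ → ℕ
  | 0 => 0
  | n + 1 => c + 8 * maskOf c n

/-- The sum of two packed forms. -/
def addV (M X Y : ℕ) : ℕ := Nat.land (Nat.land X M + Nat.land Y M) M

/-- The `i`th unit form. -/
def unit (i : ℕ) : ℕ := Nat.shiftLeft 1 (3 * i)

/-- A multiple of a form. -/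
def scaleV (M : ℕ) : ℕ → ℕ → ℕ
  | 0, _ => 0
  | c + 1, X => addV M X (scaleV M c X)

/-- The value of a packed form. -/
def val {A : Type*} [Monoid A] (c : ℕ) : ℕ → (ℕ → A) → ℕ → A
  | 0, _, _ => 1
  | n + 1, v, X => v 0 ^ Nat.land (X % 8) c * val c n (fun i => v (i + 1)) (X / 8)

theorem land_div_eight (a b : ℕ) : Nat.land a b / 8 = Nat.land (a / 8) (b / 8) := by
  show (a &&& b) / 2 ^ 3 = (a / 2 ^ 3) &&& (b / 2 ^ 3)
  rw [← Nat.shiftRight_eq_div_pow, ← Nat.shiftRight_eq_div_pow, ← Nat.shiftRight_eq_div_pow,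
    Nat.shiftRight_and_distrib]

theorem land_mod_eight (a b : ℕ) : Nat.land a b % 8 = Nat.land (a % 8) (b % 8) := by
  show (a &&& b) % 2 ^ 3 = (a % 2 ^ 3) &&& (b % 2 ^ 3)
  exact Nat.and_mod_two_pow

theorem val_zero {A : Type*} [Monoid A] (c : ℕ) : ∀ (n : ℕ) (v : ℕ → A), val c n v 0 = 1
  | 0, _ => rfl
  | n + 1, v => by simp [val, val_zero c n]

theorem val_addV {A : Type*} [CommMonoid A] {k : ℕ} (hk : k = 1 ∨ k = 2) :
    ∀ (n : ℕ) (v : ℕ → A), (∀ i, v i ^ 2 ^ k = 1) → ∀ X Y : ℕ,
      val (2 ^ k - 1) n v (addV (maskOf (2 ^ k - 1) n) X Y) =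
        val (2 ^ k - 1) n v X * val (2 ^ k - 1) n v Y
  | 0, v, _, X, Y => by simp [val]
  | n + 1, v, hv, X, Y => by
    set c := 2 ^ k - 1 with hc
    have hc3 : c ≤ 3 := by rcases hk with rfl | rfl <;> simp [hc]
    set M := maskOf c n with hM
    have hM1 : maskOf c (n + 1) = c + 8 * M := rfl
    set x := Nat.land (X % 8) c
    set y := Nat.land (Y % 8) c
    have hx : x ≤ c := Nat.and_le_right
    have hy : y ≤ c := Nat.and_le_right
    have eX : Nat.land X (c + 8 * M) = x + 8 * Nat.land (X / 8) M := by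
      rw [← Nat.mod_add_div (Nat.land X (c + 8 * M)) 8, land_mod_eight, land_div_eight,
        show (c + 8 * M) % 8 = c by omega, show (c + 8 * M) / 8 = M by omega]
    have eY : Nat.land Y (c + 8 * M) = y + 8 * Nat.land (Y / 8) M := by
      rw [← Nat.mod_add_div (Nat.land Y (c + 8 * M)) 8, land_mod_eight, land_div_eight,
        show (c + 8 * M) % 8 = c by omega, show (c + 8 * M) / 8 = M by omega]
    have e1 : addV (c + 8 * M) X Y % 8 = Nat.land (x + y) c := by
      rw [addV, land_mod_eight, eX, eY, show (c + 8 * M) % 8 = c by omega]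
      congr 1
      omega
    have e2 : addV (c + 8 * M) X Y / 8 = addV M (X / 8) (Y / 8) := by
      rw [addV, land_div_eight, eX, eY, show (c + 8 * M) / 8 = M by omega, addV]
      congr 1
      omega
    have e3 : ∀ m : ℕ, v 0 ^ Nat.land m c = v 0 ^ m := fun m => by
      rw [show Nat.land m c = m &&& c from rfl, hc, Nat.and_two_pow_sub_one_eq_mod]
      exact (pow_eq_pow_mod m (hv 0)).symm
    have e4 : Nat.land (Nat.land (x + y) c) c = Nat.land (x + y) c := by
      show (x + y) &&& c &&& c = (x + y) &&& c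
      rw [Nat.and_assoc, Nat.and_self]
    rw [hM1, val, val, val, e1, e2, val_addV hk n _ (fun i => hv (i + 1)), e4, e3, pow_add]
    exact mul_mul_mul_comm _ _ _ _

theorem val_unit {A : Type*} [Monoid A] {c : ℕ} (hc : Nat.land 1 c = 1) :
    ∀ {n i : ℕ} (v : ℕ → A), i < n → val c n v (unit i) = v i
  | 0, i, v, h => absurd h (Nat.not_lt_zero _)
  | n + 1, 0, v, _ => by
    have e : unit 0 = 1 := rfl
    rw [val, e, show (1 : ℕ) % 8 = 1 from rfl, hc, pow_one, show (1 : ℕ) / 8 = 0 from rfl,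
      val_zero, mul_one]
  | n + 1, i + 1, v, h => by
    have e : unit (i + 1) = 8 * unit i := by
      simp only [unit, show ∀ a b : ℕ, Nat.shiftLeft a b = a <<< b from fun _ _ => rfl,
        Nat.shiftLeft_eq]
      ring
    rw [val, e, Nat.mul_mod_right, Nat.mul_div_cancel_left _ (by norm_num : 0 < 8),
      show Nat.land 0 c = 0 from Nat.zero_and c, pow_zero, one_mul,
      val_unit hc (fun j => v (j + 1)) (by omega : i < n)]

/-- A certificate. -/
structure Cert where
  k : ℕ
  q : ℕ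
  n : ℕ
  rows : List (List (List ℕ))
  fus : List (List ℕ)
  assoc : List (ℕ × ℕ × ℕ)
  fusEq : List (ℕ × ℕ × ℕ)
  eqs : List (ℕ × ℕ)
  adj : List ℕ
  dv : ℕ
  combo : List (List (Bool × List (ℕ × ℕ)))
  fuel : ℕ

namespace Cert

variable (C : Cert)

/-- The right hand side of the rule for `(b, a)`. -/
def rule (b a : ℕ) : List ℕ := (C.rows.getD b []).getD a []

/-- The rules as a list. -/
def rules : Rules :=
  (List.range C.n).flatMap fun b => (List.range (b + 1)).map fun a => ([b, a], C.rule b a)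

/-- The unknown of the tail of `(b, a)`. -/
def tnum (b a : ℕ) : ℕ := b * (b + 1) / 2 + a

/-- The unknown of the correction of `s` under the fusion `f`. -/
def aux (f s : ℕ) : ℕ := C.n * (C.n + 1) / 2 + (C.n * f + s)

/-- The number of unknowns. -/
def size : ℕ := C.n * (C.n + 1) / 2 + C.n * C.fus.length

/-- The mask. -/
def mask : ℕ := maskOf (2 ^ C.k - 1) C.size

/-- Addition of forms. -/
def add (X Y : ℕ) : ℕ := addV C.mask X Y

/-- The image of a generator under a fusion; `n` or more means none. -/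
def img (f s : ℕ) : ℕ := (C.fus.getD f []).getD s C.n

/-- Collection with tails; `M` is the mask. -/
def coll (M : ℕ) : ℕ → List ℕ → List ℕ → ℕ → List ℕ × ℕ
  | 0, pre, rest, m => (pre.reverse ++ rest, m)
  | _ + 1, pre, [], m => (pre.reverse, m)
  | f + 1, [], a :: rest, m => coll M f [a] rest m
  | f + 1, b :: pre, a :: rest, m =>
    bif Nat.ble a b && Nat.blt b C.n then
      coll M f pre (C.rule b a ++ rest) (addV M m (unit (tnum b a)))
    else coll M f (a :: b :: pre) rest m

/-- Collection of a word. -/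
def norm (w : List ℕ) : List ℕ × ℕ := C.coll C.mask C.fuel [] w 0

/-- An associativity equation. -/
def assocEq (t : ℕ × ℕ × ℕ) : ℕ × ℕ :=
  bif Nat.ble t.2.2 t.2.1 && Nat.ble t.2.1 t.1 && Nat.blt t.1 C.n &&
      (C.norm (C.rule t.1 t.2.1 ++ [t.2.2])).1 == (C.norm (t.1 :: C.rule t.2.1 t.2.2)).1 then
    (C.add (C.norm (C.rule t.1 t.2.1 ++ [t.2.2])).2 (unit (tnum t.1 t.2.1)),
      C.add (C.norm (t.1 :: C.rule t.2.1 t.2.2)).2 (unit (tnum t.2.1 t.2.2)))
  else (0, 0)

/-- The corrections of a word under a fusion. -/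
def auxSum (f : ℕ) : List ℕ → ℕ
  | [] => 0
  | s :: w => C.add (unit (C.aux f s)) (auxSum f w)

/-- A fusion equation. -/
def fusionEq (t : ℕ × ℕ × ℕ) : ℕ × ℕ :=
  bif Nat.ble t.2.2 t.2.1 && Nat.blt t.2.1 C.n && Nat.blt t.1 C.fus.length &&
      ([t.2.1, t.2.2] ++ C.rule t.2.1 t.2.2).all
        (fun s => Nat.blt s C.n && Nat.blt (C.img t.1 s) C.n) &&
      (C.norm ([t.2.1, t.2.2].map (C.img t.1))).1 ==
        (C.norm ((C.rule t.2.1 t.2.2).map (C.img t.1))).1 then
    (C.add (C.norm ([t.2.1, t.2.2].map (C.img t.1))).2 (C.auxSum t.1 [t.2.1, t.2.2]),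
      C.add (C.norm ((C.rule t.2.1 t.2.2).map (C.img t.1))).2
        (C.add (C.auxSum t.1 (C.rule t.2.1 t.2.2)) (unit (tnum t.2.1 t.2.2))))
  else (0, 0)

/-- The corrections of a word. -/
def adjSum : List ℕ → ℕ
  | [] => 0
  | s :: w => C.add (C.adj.getD s 0) (adjSum w)

/-- A combination of equations. -/
def comb : List (ℕ × ℕ) → ℕ × ℕ
  | [] => (0, 0)
  | t :: L => (C.add (scaleV C.mask t.1 (C.eqs.getD t.2 (0, 0)).1) (comb L).1,
      C.add (scaleV C.mask t.1 (C.eqs.getD t.2 (0, 0)).2) (comb L).2)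

/-- The data of the rule for `(b, a)`. -/
def comboAt (b a : ℕ) : Bool × List (ℕ × ℕ) := (C.combo.getD b []).getD a (false, [])

/-- The `q`-th power of the corrected tail of `(b, a)` is as stated. -/
def ruleCheck (b a : ℕ) : Bool :=
  Nat.beq (C.add (scaleV C.mask C.q (C.add (unit (tnum b a)) (C.adjSum [b, a])))
      (C.comb (C.comboAt b a).2).2)
    (C.add (scaleV C.mask C.q (C.add (C.adjSum (C.rule b a))
      (bif (C.comboAt b a).1 then C.dv else 0))) (C.comb (C.comboAt b a).2).1)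

/-- The equations are the stored ones. -/
def eqsCheck : Bool := C.assoc.map C.assocEq ++ C.fusEq.map C.fusionEq == C.eqs

/-- The other checks. -/
def linCheck : Bool :=
  (Nat.beq C.k 1 || Nat.beq C.k 2) && shaped 2 C.n C.rules &&
    (List.range C.n).all fun b => (List.range (b + 1)).all fun a => C.ruleCheck b a

end Cert

theorem tnum_lt {n b a : ℕ} (hab : a ≤ b) (hb : b < n) :
    Cert.tnum b a < n * (n + 1) / 2 := by
  have h : b * (b + 1) + 2 * (b + 1) ≤ n * (n + 1) := by
    calc b * (b + 1) + 2 * (b + 1) = (b + 1) * (b + 2) := by ring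
      _ ≤ n * (n + 1) := Nat.mul_le_mul (by omega) (by omega)
  rw [Cert.tnum]
  omega

theorem tnum_inj {b a b' a' : ℕ} (hab : a ≤ b) (hab' : a' ≤ b')
    (h : Cert.tnum b a = Cert.tnum b' a') : b = b' ∧ a = a' := by
  have key : ∀ {b a b'}, a ≤ b → b < b' → Cert.tnum b a < Cert.tnum b' 0 := by
    intro b a b' hab hlt
    have h : b * (b + 1) + 2 * (b + 1) ≤ b' * (b' + 1) := by
      calc b * (b + 1) + 2 * (b + 1) = (b + 1) * (b + 2) := by ring
        _ ≤ b' * (b' + 1) := Nat.mul_le_mul (by omega) (by omega)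
    simp only [Cert.tnum]
    omega
  rcases lt_trichotomy b b' with hlt | rfl | hlt
  · have := key hab hlt
    simp only [Cert.tnum] at h this
    omega
  · simp only [Cert.tnum] at h
    omega
  · have := key hab' hlt
    simp only [Cert.tnum] at h this
    omega

section

open scoped commutatorElement

variable {G : Type*} [Group G] {Γ : Type*} [Group Γ]

/-- The kernel of a stem extension lies in a subgroup of it modulo which lifts of the generators
satisfy the rules. -/
theorem ker_le_of_tails {n : ℕ} {rs : Rules} [Finite Γ] (σ : Γ →* G)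
    (hσ : Cfsg.IsStemExtension σ) (C : Subgroup Γ) (hC : C ≤ σ.ker) (Y : ℕ → Γ)
    (hshape : shaped 2 n rs = true) (hrs : ∀ r ∈ rs, (ev Y r.2)⁻¹ * ev Y r.1 ∈ C)
    (hcard : 2 ^ n ≤ Nat.card (tailSubgroup (fun i => σ (Y i)) n 0))
    (hindex : ¬ 2 ∣ (tailSubgroup (fun i => σ (Y i)) n 0).index)
    {u : Γ} (hu : u ∈ σ.ker) (hu2 : ∃ e, orderOf u = 2 ^ e) : u ∈ C := by
  obtain ⟨hsurj, hcen, hcomm⟩ := hσ
  haveI : C.Normal := ⟨fun x hx g => by
    rw [Subgroup.mem_center_iff.1 (hcen (hC hx)) g, mul_inv_cancel_right]; exact hx⟩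
  let mk := QuotientGroup.mk' C
  let S := tailSubgroup (fun i => mk (Y i)) n 0
  have hScard : Nat.card S ≤ 2 ^ n := by
    refine card_tailSubgroup_le _ hshape (fun r hr => ?_) n 0 (Nat.zero_add _)
    rw [← map_ev, ← map_ev, QuotientGroup.mk'_apply, QuotientGroup.mk'_apply, QuotientGroup.eq,
      ← inv_mem_iff, mul_inv_rev, inv_inv]
    exact hrs r hr
  let π : Γ ⧸ C →* G := QuotientGroup.lift C σ hC
  have hmap : S.map π = tailSubgroup (fun i => σ (Y i)) n 0 := by
    simp only [S, tailSubgroup, MonoidHom.map_closure, Set.image_image]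
    rfl
  have hinj : ∀ s ∈ S, π s = 1 → s = 1 := by
    let f : S → tailSubgroup (fun i => σ (Y i)) n 0 := fun s =>
      ⟨π s, hmap ▸ Subgroup.mem_map_of_mem π s.2⟩
    have hsur : Function.Surjective f := by
      rintro ⟨g, hg⟩
      rw [← hmap] at hg
      obtain ⟨s, hs, rfl⟩ := hg
      exact ⟨⟨s, hs⟩, rfl⟩
    have hbij : Function.Bijective f := hsur.bijective_of_nat_card_le (hScard.trans hcard)
    intro s hs h1
    have : (⟨s, hs⟩ : S) = 1 := hbij.1 (Subtype.ext (by simp [f, h1]))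
    exact congrArg Subtype.val this
  let H := (tailSubgroup (fun i => σ (Y i)) n 0).comap σ
  have hcop : (orderOf u).Coprime H.index := by
    obtain ⟨e, he⟩ := hu2
    rw [Subgroup.index_comap_of_surjective _ hsurj, he]
    exact Nat.Coprime.pow_left _ (Nat.prime_two.coprime_iff_not_dvd.mpr hindex)
  have h1 := mem_commutator_of_index_coprime H (hcen hu) (hcomm hu) hcop
  have h2 : ⁅H, H⁆ ≤ S.comap mk := by
    rw [Subgroup.commutator_le]
    intro g hg h hh
    have hlift : ∀ g ∈ H, ∃ s : Γ, mk s ∈ S ∧ s⁻¹ * g ∈ Subgroup.center Γ := by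
      intro g hg
      obtain ⟨s, hs, es⟩ : σ g ∈ S.map π := by rw [hmap]; exact hg
      obtain ⟨s, rfl⟩ := QuotientGroup.mk'_surjective C s
      refine ⟨s, hs, hcen ?_⟩
      rw [MonoidHom.mem_ker, map_mul, map_inv, show σ s = σ g from es, inv_mul_cancel]
    obtain ⟨g', hg', hkg⟩ := hlift g hg
    obtain ⟨h', hh', hkh⟩ := hlift h hh
    have e : ⁅g, h⁆ = ⁅g', h'⁆ := by
      rw [← mul_inv_cancel_left g' g, ← mul_inv_cancel_left h' h]
      have hu' := comm_center hkg
      have hv' := comm_center hkh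
      generalize g'⁻¹ * g = a at hu'
      generalize h'⁻¹ * h = b at hv'
      simp only [commutatorElement_def, mul_inv_rev]
      rw [show g' * a * (h' * b) * (a⁻¹ * g'⁻¹) * (b⁻¹ * h'⁻¹) =
        g' * (a * h') * (b * a⁻¹) * g'⁻¹ * b⁻¹ * h'⁻¹ by group, hu' h', hv' a⁻¹,
        show g' * (h' * a) * (a⁻¹ * b) * g'⁻¹ * b⁻¹ * h'⁻¹ =
        g' * h' * (b * g'⁻¹) * b⁻¹ * h'⁻¹ by group, hv' g'⁻¹]
      group
    rw [e, Subgroup.mem_comap, map_commutatorElement, commutatorElement_def]
    exact S.mul_mem (S.mul_mem (S.mul_mem hg' hh') (S.inv_mem hg')) (S.inv_mem hh')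
  exact (QuotientGroup.eq_one_iff u).1 (hinj _ (h2 h1) hu)

/-- What a certificate gives. -/
theorem Cert.ker_pow_mem (C : Cert) [Finite Γ] (σ : Γ →* G) (hσ : Cfsg.IsStemExtension σ)
    (hexp : ∀ z ∈ σ.ker, z ^ 2 ^ C.k = 1) (heqs : C.eqsCheck = true) (hlin : C.linCheck = true)
    (x : ℕ → G) (hrules : ∀ a b, a ≤ b → b < C.n → x b * x a = ev x (C.rule b a))
    (hfus : ∀ f, f < C.fus.length → ∃ g : G, ∀ s, s < C.n → C.img f s < C.n →
      g * x s * g⁻¹ = x (C.img f s))
    (hcard : 2 ^ C.n ≤ Nat.card (tailSubgroup x C.n 0))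
    (hindex : ¬ 2 ∣ (tailSubgroup x C.n 0).index) :
    ∃ D ∈ σ.ker, (C.dv = 0 → D = 1) ∧ ∀ u ∈ σ.ker, u ^ C.q ∈ Subgroup.zpowers (D ^ C.q) := by
  classical
  letI : CommGroup σ.ker := { (inferInstance : Group σ.ker) with
    mul_comm := fun a b => Subtype.ext (comm_center (hσ.2.1 a.2) b.1) }
  simp only [Cert.linCheck, Bool.and_eq_true, Bool.or_eq_true, List.all_eq_true,
    List.mem_range] at hlin
  obtain ⟨⟨hk, hshape⟩, hruleCheck⟩ := hlin
  replace hk : C.k = 1 ∨ C.k = 2 :=
    hk.imp Nat.eq_of_beq_eq_true Nat.eq_of_beq_eq_true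
  obtain ⟨hsurj, hcen, hcomm⟩ := id hσ
  let Y : ℕ → Γ := fun i => (hsurj (x i)).choose
  have hY : ∀ i, σ (Y i) = x i := fun i => (hsurj (x i)).choose_spec
  have hYev : ∀ w, σ (ev Y w) = ev x w := fun w => by
    rw [map_ev]; exact congrArg (fun y => ev y w) (funext hY)
  have hg : ∀ f : ℕ, ∃ Gf : Γ, f < C.fus.length → ∀ s, s < C.n → C.img f s < C.n →
      (Y (C.img f s))⁻¹ * (Gf * Y s * Gf⁻¹) ∈ σ.ker := by
    intro f
    by_cases hf : f < C.fus.length
    · obtain ⟨g, hg⟩ := hfus f hf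
      obtain ⟨Gf, rfl⟩ := hsurj g
      refine ⟨Gf, fun _ s hs hi => ?_⟩
      rw [MonoidHom.mem_ker]
      simp only [map_mul, map_inv, hY]
      rw [hg s hs hi, inv_mul_cancel]
    · exact ⟨1, fun h => absurd h hf⟩
  choose Gf hGf using hg
  -- the unknowns
  let v : ℕ → σ.ker := fun i =>
    if h : ∃ p : ℕ × ℕ, p.2 ≤ p.1 ∧ p.1 < C.n ∧ i = Cert.tnum p.1 p.2 then
      ⟨(ev Y (C.rule h.choose.1 h.choose.2))⁻¹ * (Y h.choose.1 * Y h.choose.2), by
        obtain ⟨h1, h2, -⟩ := h.choose_spec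
        rw [MonoidHom.mem_ker, map_mul, map_inv, map_mul, hYev, hY, hY, hrules _ _ h1 h2,
          inv_mul_cancel]⟩
    else if h : ∃ p : ℕ × ℕ, p.1 < C.fus.length ∧ p.2 < C.n ∧ C.img p.1 p.2 < C.n ∧
        i = C.aux p.1 p.2 then
      ⟨(Y (C.img h.choose.1 h.choose.2))⁻¹ *
          (Gf h.choose.1 * Y h.choose.2 * (Gf h.choose.1)⁻¹),
        hGf _ h.choose_spec.1 _ h.choose_spec.2.1 h.choose_spec.2.2.1⟩
    else 1
  have hvt : ∀ b a, a ≤ b → b < C.n →
      Y b * Y a = ev Y (C.rule b a) * (v (Cert.tnum b a) : Γ) := by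
    intro b a hab hb
    have h : ∃ p : ℕ × ℕ, p.2 ≤ p.1 ∧ p.1 < C.n ∧ Cert.tnum b a = Cert.tnum p.1 p.2 :=
      ⟨(b, a), hab, hb, rfl⟩
    obtain ⟨e1, e2⟩ := tnum_inj h.choose_spec.1 hab h.choose_spec.2.2.symm
    simp only [v, dif_pos h, e1, e2, mul_inv_cancel_left]
  have hvf : ∀ f s, f < C.fus.length → s < C.n → C.img f s < C.n →
      Gf f * Y s * (Gf f)⁻¹ = Y (C.img f s) * (v (C.aux f s) : Γ) := by
    intro f s hf hs hi
    have h0 : ¬ ∃ p : ℕ × ℕ, p.2 ≤ p.1 ∧ p.1 < C.n ∧ C.aux f s = Cert.tnum p.1 p.2 := by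
      rintro ⟨⟨b, a⟩, hab, hb, e⟩
      have := tnum_lt (n := C.n) hab hb
      simp only [Cert.aux] at e
      simp only [] at this
      omega
    have h : ∃ p : ℕ × ℕ, p.1 < C.fus.length ∧ p.2 < C.n ∧ C.img p.1 p.2 < C.n ∧
        C.aux f s = C.aux p.1 p.2 := ⟨(f, s), hf, hs, hi, rfl⟩
    have key : ∀ p : ℕ × ℕ, p.2 < C.n → C.aux f s = C.aux p.1 p.2 → p = (f, s) := by
      rintro ⟨f', s'⟩ hs' e
      simp only [Cert.aux] at e
      replace e : C.n * f + s = C.n * f' + s' := by omega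
      have h1 : (C.n * f + s) / C.n = f := by
        rw [Nat.mul_add_div (by omega), Nat.div_eq_of_lt hs, add_zero]
      have h2 : (C.n * f' + s') / C.n = f' := by
        rw [Nat.mul_add_div (by omega), Nat.div_eq_of_lt hs', add_zero]
      obtain rfl : f = f' := by rw [← h1, e, h2]
      rw [show s = s' by omega]
    have hc' := key _ h.choose_spec.2.1 h.choose_spec.2.2.2
    simp only [v, dif_neg h0, dif_pos h, hc', mul_inv_cancel_left]
  set χ : ℕ → σ.ker := val (2 ^ C.k - 1) C.size v with hχdef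
  have hv2 : ∀ i, v i ^ 2 ^ C.k = 1 := fun i => Subtype.ext (by simpa using hexp _ (v i).2)
  have hadd : ∀ X X', χ (C.add X X') = χ X * χ X' := fun X X' => val_addV hk _ v hv2 X X'
  have hzero : χ 0 = 1 := val_zero _ _ _
  have hscale : ∀ c X, χ (scaleV C.mask c X) = χ X ^ c := by
    intro c X
    induction c with
    | zero => rw [pow_zero]; exact hzero
    | succ c ih =>
      rw [show scaleV C.mask (c + 1) X = C.add X (scaleV C.mask c X) from rfl, hadd, ih, pow_succ']
  have hunit : ∀ {i}, i < C.size → χ (unit i) = v i := fun {i} hi =>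
    val_unit (by rcases hk with e | e <;> rw [e] <;> rfl) v hi
  have htlt : ∀ b a, a ≤ b → b < C.n → Cert.tnum b a < C.size := fun b a hab hb => by
    have := tnum_lt (n := C.n) hab hb
    rw [Cert.size]; omega
  have halt : ∀ f s, f < C.fus.length → s < C.n → C.aux f s < C.size := fun f s hf hs => by
    have : C.n * f + C.n ≤ C.n * C.fus.length := by
      rw [← Nat.mul_succ]; exact Nat.mul_le_mul_left _ hf
    rw [Cert.aux, Cert.size]; omega
  have hcc : ∀ (a : σ.ker) (g : Γ), (a : Γ) * g = g * a := fun a g => comm_center (hcen a.2) g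
  have hcoll : ∀ (f : ℕ) (pre rest : List ℕ) (m : ℕ),
      ev Y (C.coll C.mask f pre rest m).1 * (χ (C.coll C.mask f pre rest m).2 : Γ) =
        ev Y (pre.reverse ++ rest) * (χ m : Γ) := by
    intro f
    induction f with
    | zero => intro pre rest m; rfl
    | succ f ih =>
      intro pre rest m
      match pre, rest with
      | pre, [] => rw [Cert.coll, List.append_nil]
      | [], a :: rest => rw [Cert.coll, ih]; rfl
      | b :: pre, a :: rest =>
        rw [Cert.coll]
        cases hg : Nat.ble a b && Nat.blt b C.n with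
        | true =>
          simp only [Bool.and_eq_true] at hg
          have hab : a ≤ b := Nat.le_of_ble_eq_true hg.1
          have hbn : b < C.n := Nat.le_of_ble_eq_true hg.2
          rw [cond_true, ih, show addV C.mask m (unit (Cert.tnum b a)) =
            C.add m (unit (Cert.tnum b a)) from rfl, hadd, hunit (htlt b a hab hbn),
            List.reverse_cons, List.append_assoc, List.singleton_append, ev_append, ev_append,
            ev_append, ev_cons, ev_cons, ← mul_assoc (Y b), hvt b a hab hbn,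
            mul_assoc (ev Y (C.rule b a)), hcc (v _) (ev Y rest)]
          simp only [Subgroup.coe_mul, mul_assoc]
          rw [hcc (χ m)]
        | false =>
          rw [cond_false, ih]
          simp [List.append_assoc]
  have hnorm : ∀ w, ev Y (C.norm w).1 * (χ (C.norm w).2 : Γ) = ev Y w := fun w => by
    rw [Cert.norm, hcoll, hzero]; simp
  have hassoc : ∀ t, χ (C.assocEq t).1 = χ (C.assocEq t).2 := by
    rintro ⟨c, b, a⟩
    rw [Cert.assocEq]
    cases hg : Nat.ble a b && Nat.ble b c && Nat.blt c C.n &&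
      (C.norm (C.rule c b ++ [a])).1 == (C.norm (c :: C.rule b a)).1 with
    | true =>
      simp only [Bool.and_eq_true, beq_iff_eq] at hg
      have hab : a ≤ b := Nat.le_of_ble_eq_true hg.1.1.1
      have hbc : b ≤ c := Nat.le_of_ble_eq_true hg.1.1.2
      have hcn : c < C.n := Nat.le_of_ble_eq_true hg.1.2
      rw [cond_true]
      dsimp only
      rw [hadd, hadd, hunit (htlt c b hbc hcn), hunit (htlt b a hab (by omega))]
      refine Subtype.ext ?_
      apply mul_left_cancel (a := ev Y (C.norm (C.rule c b ++ [a])).1)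
      conv_rhs => rw [hg.2]
      rw [Subgroup.coe_mul, Subgroup.coe_mul, ← mul_assoc, ← mul_assoc, hnorm, hnorm, ev_append,
        ev_cons, ev_nil, mul_one, mul_assoc, ← hcc (v _) (Y a), ← mul_assoc, ← hvt c b hbc hcn,
        ev_cons, mul_assoc (Y c) (ev Y (C.rule b a)), ← hvt b a hab (by omega), mul_assoc]
    | false => simp
  have hauxSum : ∀ f, f < C.fus.length → ∀ w : List ℕ,
      (∀ s ∈ w, s < C.n ∧ C.img f s < C.n) →
      Gf f * ev Y w * (Gf f)⁻¹ = ev Y (w.map (C.img f)) * (χ (C.auxSum f w) : Γ) := by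
    intro f hf w hw
    induction w with
    | nil => simp [Cert.auxSum, hzero]
    | cons s w ih =>
      have hs := hw s List.mem_cons_self
      rw [List.map_cons, ev_cons, ev_cons, Cert.auxSum, hadd, hunit (halt f s hf hs.1),
        show Gf f * (Y s * ev Y w) * (Gf f)⁻¹ =
          (Gf f * Y s * (Gf f)⁻¹) * (Gf f * ev Y w * (Gf f)⁻¹) by group,
        hvf f s hf hs.1 hs.2, ih fun a ha => hw a (List.mem_cons_of_mem _ ha), Subgroup.coe_mul]
      simp only [mul_assoc]
      congr 1
      rw [← mul_assoc, hcc (v _), mul_assoc]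
  have hfusion : ∀ t, χ (C.fusionEq t).1 = χ (C.fusionEq t).2 := by
    rintro ⟨f, b, a⟩
    rw [Cert.fusionEq]
    cases hg : Nat.ble a b && Nat.blt b C.n && Nat.blt f C.fus.length &&
      ([b, a] ++ C.rule b a).all (fun s => Nat.blt s C.n && Nat.blt (C.img f s) C.n) &&
      (C.norm ([b, a].map (C.img f))).1 == (C.norm ((C.rule b a).map (C.img f))).1 with
    | true =>
      simp only [Bool.and_eq_true, beq_iff_eq, List.all_eq_true, List.mem_append] at hg
      obtain ⟨⟨⟨⟨h1, h2⟩, h3⟩, h4⟩, h5⟩ := hg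
      have hab : a ≤ b := Nat.le_of_ble_eq_true h1
      have hb : b < C.n := Nat.le_of_ble_eq_true h2
      have hf : f < C.fus.length := Nat.le_of_ble_eq_true h3
      have hlt : ∀ s, s ∈ [b, a] ∨ s ∈ C.rule b a → s < C.n ∧ C.img f s < C.n :=
        fun s hs => (h4 s hs).imp Nat.le_of_ble_eq_true Nat.le_of_ble_eq_true
      rw [cond_true]
      dsimp only
      rw [hadd, hadd, hadd, hunit (htlt b a hab hb)]
      refine Subtype.ext ?_
      apply mul_left_cancel (a := ev Y (C.norm ([b, a].map (C.img f))).1)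
      conv_rhs => rw [h5]
      simp only [Subgroup.coe_mul]
      rw [← mul_assoc, ← mul_assoc, hnorm, hnorm, ← hauxSum f hf _ (fun s hs => hlt s (Or.inl hs)),
        ← mul_assoc, ← hauxSum f hf _ (fun s hs => hlt s (Or.inr hs)), ev_cons, ev_cons, ev_nil,
        mul_one, hvt b a hab hb]
      rw [show Gf f * (ev Y (C.rule b a) * (v (Cert.tnum b a) : Γ)) * (Gf f)⁻¹ =
        Gf f * ev Y (C.rule b a) * ((v (Cert.tnum b a) : Γ) * (Gf f)⁻¹) by group,
        hcc (v _) (Gf f)⁻¹, ← mul_assoc]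
    | false => simp
  rw [Cert.eqsCheck, beq_iff_eq] at heqs
  have hev : ∀ e ∈ C.eqs, χ e.1 = χ e.2 := by
    rw [← heqs]
    intro e he
    simp only [List.mem_append, List.mem_map] at he
    rcases he with ⟨t, -, rfl⟩ | ⟨t, -, rfl⟩
    · exact hassoc t
    · exact hfusion t
  have hcomb : ∀ L, χ (C.comb L).1 = χ (C.comb L).2 := by
    intro L
    induction L with
    | nil => rfl
    | cons t L ih =>
      rw [Cert.comb]
      dsimp only
      rw [hadd, hadd, hscale, hscale, ih]
      by_cases h : t.2 < C.eqs.length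
      · rw [List.getD_eq_getElem _ _ h, hev _ (List.getElem_mem h)]
      · rw [List.getD_eq_default _ _ (Nat.le_of_not_lt h)]
  let Y' : ℕ → Γ := fun s => Y s * (χ (C.adj.getD s 0) : Γ)
  have hY'ev : ∀ w, ev Y' w = ev Y w * (χ (C.adjSum w) : Γ) := by
    intro w
    induction w with
    | nil => simp [Cert.adjSum, hzero]
    | cons s w ih =>
      rw [ev_cons, ev_cons, ih, Cert.adjSum, hadd, Subgroup.coe_mul]
      simp only [Y', mul_assoc]
      congr 1
      rw [← mul_assoc, hcc (χ _), mul_assoc]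
  have hY' : ∀ i, σ (Y' i) = x i := fun i => by
    have : σ (χ (C.adj.getD i 0) : Γ) = 1 := (χ (C.adj.getD i 0)).2
    simp only [Y', map_mul, this, mul_one, hY]
  set D : σ.ker := χ C.dv with hDdef
  let S : Subgroup Γ :=
    ((Subgroup.zpowers (D ^ C.q)).comap (powMonoidHom C.q)).map σ.ker.subtype
  refine ⟨D, D.2, fun h => by rw [hDdef, h, hzero]; rfl, ?_⟩
  have htail : ∀ r ∈ C.rules, (ev Y' r.2)⁻¹ * ev Y' r.1 ∈ S := by
    intro r hr
    simp only [Cert.rules, List.mem_flatMap, List.mem_map, List.mem_range] at hr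
    obtain ⟨b, hb, a, ha, rfl⟩ := hr
    have hab : a ≤ b := by omega
    have hc := congrArg χ (Nat.eq_of_beq_eq_true (hruleCheck b hb a ha))
    rw [hadd, hadd, hscale, hscale, hadd, hadd, hcomb, mul_left_inj, hunit (htlt b a hab hb)] at hc
    refine ⟨(χ (C.adjSum (C.rule b a)))⁻¹ * (v (Cert.tnum b a) * χ (C.adjSum [b, a])), ?_, ?_⟩
    · rw [SetLike.mem_coe, Subgroup.mem_comap, powMonoidHom_apply, mul_pow, hc, mul_pow, inv_pow, inv_mul_cancel_left]
      cases (C.comboAt b a).1
      · rw [cond_false, hzero, one_pow]; exact one_mem _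
      · exact Subgroup.mem_zpowers _
    · rw [hY'ev, hY'ev, ev_cons, ev_cons, ev_nil, mul_one, hvt b a hab hb]
      simp only [Subgroup.coe_subtype, Subgroup.coe_mul, Subgroup.coe_inv, mul_inv_rev, mul_assoc,
        inv_mul_cancel_left]
  intro u hu
  have hu2 : ∃ e, orderOf u = 2 ^ e :=
    ⟨_, ((Nat.dvd_prime_pow Nat.prime_two).1 (orderOf_dvd_of_pow_eq_one (hexp u hu))).choose_spec.2⟩
  obtain ⟨w, hw, rfl⟩ := ker_le_of_tails σ hσ S (Subgroup.map_subtype_le _) Y' hshape htail
    (by simpa only [hY'] using hcard) (by simpa only [hY'] using hindex) hu hu2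
  obtain ⟨i, hi⟩ := hw
  refine ⟨i, ?_⟩
  simpa using congrArg Subtype.val hi

end

end CfsgLib.Schur.Tail
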