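import Cfsg.Agent.Schur.TailCert

/-!
# Certificates for stable classes spanning a group of order at most four

As `TailCert`, for exponent two, but the tails may be products of two distinguished elements.
-/

set_option autoImplicit false
set_option linter.style.haveILetI false

namespace CfsgLib.Schur.Tail

open CfsgLib.Schur.Pc

/-- A certificate with a second distinguished form. -/
structure Cert2 where
  base : Cert
  dv2 : ℕ
  combo2 : List (List Bool)

namespace Cert2

variable (C : Cert2)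

/-- Whether the tail of `(b, a)` involves the second element. -/
def bit (b a : ℕ) : Bool := (C.combo2.getD b []).getD a false

/-- The corrected tail of `(b, a)` is as stated. -/
def ruleCheck (b a : ℕ) : Bool :=
  Nat.beq (C.base.add (scaleV C.base.mask C.base.q
        (C.base.add (unit (Cert.tnum b a)) (C.base.adjSum [b, a])))
      (C.base.comb (C.base.comboAt b a).2).2)
    (C.base.add (scaleV C.base.mask C.base.q (C.base.add (C.base.adjSum (C.base.rule b a))
      (C.base.add (bif (C.base.comboAt b a).1 then C.base.dv else 0)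
        (bif C.bit b a then C.dv2 else 0)))) (C.base.comb (C.base.comboAt b a).2).1)

/-- The checks apart from the equations. -/
def linCheck : Bool :=
  Nat.beq C.base.k 1 && Nat.beq C.base.q 1 && shaped 2 C.base.n C.base.rules &&
    (List.range C.base.n).all fun b => (List.range (b + 1)).all fun a => C.ruleCheck b a

end Cert2

section

variable {G : Type*} [Group G] {Γ : Type*} [Group Γ]

/-- What a certificate with two central elements gives. -/
theorem Cert2.ker_subset (C2 : Cert2) [Finite Γ] (σ : Γ →* G) (hσ : Cfsg.IsStemExtension σ)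
    (hexp : ∀ z ∈ σ.ker, z ^ 2 = 1) (heqs : C2.base.eqsCheck = true) (hlin : C2.linCheck = true)
    (x : ℕ → G)
    (hrules : ∀ a b, a ≤ b → b < C2.base.n → x b * x a = ev x (C2.base.rule b a))
    (hfus : ∀ f, f < C2.base.fus.length → ∃ g : G, ∀ s, s < C2.base.n → C2.base.img f s < C2.base.n →
      g * x s * g⁻¹ = x (C2.base.img f s))
    (hcard : 2 ^ C2.base.n ≤ Nat.card (tailSubgroup x C2.base.n 0))
    (hindex : ¬ 2 ∣ (tailSubgroup x C2.base.n 0).index) :
    ∃ D E : Γ, D ∈ σ.ker ∧ E ∈ σ.ker ∧ ∀ u ∈ σ.ker, u = 1 ∨ u = D ∨ u = E ∨ u = D * E := by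
  classical
  letI : CommGroup σ.ker := { (inferInstance : Group σ.ker) with
    mul_comm := fun a b => Subtype.ext (comm_center (hσ.2.1 a.2) b.1) }
  simp only [Cert2.linCheck, Bool.and_eq_true, List.all_eq_true, List.mem_range] at hlin
  obtain ⟨⟨⟨hk1, hq1⟩, hshape⟩, hruleCheck⟩ := hlin
  obtain ⟨C, dv2, combo2⟩ := C2
  replace hk1 : C.k = 1 := Nat.eq_of_beq_eq_true hk1
  replace hq1 : C.q = 1 := Nat.eq_of_beq_eq_true hq1
  have hk : C.k = 1 ∨ C.k = 2 := Or.inl hk1
  replace hexp : ∀ z ∈ σ.ker, z ^ 2 ^ C.k = 1 := by rw [hk1, pow_one]; exact hexp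
  obtain ⟨hsurj, hcen, hcomm⟩ := id hσ
  let Y : ℕ → Γ := fun i => (hsurj (x i)).choose
  have hY : ∀ i, σ (Y i) = x i := fun i => (hsurj (x i)).choose_spec
  have hYev : ∀ w, σ (ev Y w) = ev x w := fun w => by
    rw [map_ev]; exact congrArg (fun y => ev y w) (funext hY)
  have hg : ∀ f : ℕ, ∃ Gf : Γ, f < C.fus.length → ∀ s, s < C.n → C.img f s < C.n →
      (Y (C.img f s))⁻¹ * (Gf * Y s * Gf⁻¹) ∈ σ.ker := by
    intro f
    by_cases hf : f < C.fus.length
    · obtain ⟨g, hg⟩ := hfus f hf
      obtain ⟨Gf, rfl⟩ := hsurj g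
      refine ⟨Gf, fun _ s hs hi => ?_⟩
      rw [MonoidHom.mem_ker]
      simp only [map_mul, map_inv, hY]
      rw [hg s hs hi, inv_mul_cancel]
    · exact ⟨1, fun h => absurd h hf⟩
  choose Gf hGf using hg
  -- the unknowns
  let v : ℕ → σ.ker := fun i =>
    if h : ∃ p : ℕ × ℕ, p.2 ≤ p.1 ∧ p.1 < C.n ∧ i = Cert.tnum p.1 p.2 then
      ⟨(ev Y (C.rule h.choose.1 h.choose.2))⁻¹ * (Y h.choose.1 * Y h.choose.2), by
        obtain ⟨h1, h2, -⟩ := h.choose_spec
        rw [MonoidHom.mem_ker, map_mul, map_inv, map_mul, hYev, hY, hY, hrules _ _ h1 h2,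
          inv_mul_cancel]⟩
    else if h : ∃ p : ℕ × ℕ, p.1 < C.fus.length ∧ p.2 < C.n ∧ C.img p.1 p.2 < C.n ∧
        i = C.aux p.1 p.2 then
      ⟨(Y (C.img h.choose.1 h.choose.2))⁻¹ *
          (Gf h.choose.1 * Y h.choose.2 * (Gf h.choose.1)⁻¹),
        hGf _ h.choose_spec.1 _ h.choose_spec.2.1 h.choose_spec.2.2.1⟩
    else 1
  have hvt : ∀ b a, a ≤ b → b < C.n →
      Y b * Y a = ev Y (C.rule b a) * (v (Cert.tnum b a) : Γ) := by
    intro b a hab hb
    have h : ∃ p : ℕ × ℕ, p.2 ≤ p.1 ∧ p.1 < C.n ∧ Cert.tnum b a = Cert.tnum p.1 p.2 :=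
      ⟨(b, a), hab, hb, rfl⟩
    obtain ⟨e1, e2⟩ := tnum_inj h.choose_spec.1 hab h.choose_spec.2.2.symm
    simp only [v, dif_pos h, e1, e2, mul_inv_cancel_left]
  have hvf : ∀ f s, f < C.fus.length → s < C.n → C.img f s < C.n →
      Gf f * Y s * (Gf f)⁻¹ = Y (C.img f s) * (v (C.aux f s) : Γ) := by
    intro f s hf hs hi
    have h0 : ¬ ∃ p : ℕ × ℕ, p.2 ≤ p.1 ∧ p.1 < C.n ∧ C.aux f s = Cert.tnum p.1 p.2 := by
      rintro ⟨⟨b, a⟩, hab, hb, e⟩
      have := tnum_lt (n := C.n) hab hb
      simp only [Cert.aux] at e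
      simp only [] at this
      omega
    have h : ∃ p : ℕ × ℕ, p.1 < C.fus.length ∧ p.2 < C.n ∧ C.img p.1 p.2 < C.n ∧
        C.aux f s = C.aux p.1 p.2 := ⟨(f, s), hf, hs, hi, rfl⟩
    have key : ∀ p : ℕ × ℕ, p.2 < C.n → C.aux f s = C.aux p.1 p.2 → p = (f, s) := by
      rintro ⟨f', s'⟩ hs' e
      simp only [Cert.aux] at e
      replace e : C.n * f + s = C.n * f' + s' := by omega
      have h1 : (C.n * f + s) / C.n = f := by
        rw [Nat.mul_add_div (by omega), Nat.div_eq_of_lt hs, add_zero]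
      have h2 : (C.n * f' + s') / C.n = f' := by
        rw [Nat.mul_add_div (by omega), Nat.div_eq_of_lt hs', add_zero]
      obtain rfl : f = f' := by rw [← h1, e, h2]
      rw [show s = s' by omega]
    have hc' := key _ h.choose_spec.2.1 h.choose_spec.2.2.2
    simp only [v, dif_neg h0, dif_pos h, hc', mul_inv_cancel_left]
  set χ : ℕ → σ.ker := val (2 ^ C.k - 1) C.size v with hχdef
  have hv2 : ∀ i, v i ^ 2 ^ C.k = 1 := fun i => Subtype.ext (by simpa using hexp _ (v i).2)
  have hadd : ∀ X X', χ (C.add X X') = χ X * χ X' := fun X X' => val_addV hk _ v hv2 X X'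
  have hzero : χ 0 = 1 := val_zero _ _ _
  have hscale : ∀ c X, χ (scaleV C.mask c X) = χ X ^ c := by
    intro c X
    induction c with
    | zero => rw [pow_zero]; exact hzero
    | succ c ih =>
      rw [show scaleV C.mask (c + 1) X = C.add X (scaleV C.mask c X) from rfl, hadd, ih, pow_succ']
  have hunit : ∀ {i}, i < C.size → χ (unit i) = v i := fun {i} hi =>
    val_unit (by rcases hk with e | e <;> rw [e] <;> rfl) v hi
  have htlt : ∀ b a, a ≤ b → b < C.n → Cert.tnum b a < C.size := fun b a hab hb => by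
    have := tnum_lt (n := C.n) hab hb
    rw [Cert.size]; omega
  have halt : ∀ f s, f < C.fus.length → s < C.n → C.aux f s < C.size := fun f s hf hs => by
    have : C.n * f + C.n ≤ C.n * C.fus.length := by
      rw [← Nat.mul_succ]; exact Nat.mul_le_mul_left _ hf
    rw [Cert.aux, Cert.size]; omega
  have hcc : ∀ (a : σ.ker) (g : Γ), (a : Γ) * g = g * a := fun a g => comm_center (hcen a.2) g
  have hcoll : ∀ (f : ℕ) (pre rest : List ℕ) (m : ℕ),
      ev Y (C.coll C.mask f pre rest m).1 * (χ (C.coll C.mask f pre rest m).2 : Γ) =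
        ev Y (pre.reverse ++ rest) * (χ m : Γ) := by
    intro f
    induction f with
    | zero => intro pre rest m; rfl
    | succ f ih =>
      intro pre rest m
      match pre, rest with
      | pre, [] => rw [Cert.coll, List.append_nil]
      | [], a :: rest => rw [Cert.coll, ih]; rfl
      | b :: pre, a :: rest =>
        rw [Cert.coll]
        cases hg : Nat.ble a b && Nat.blt b C.n with
        | true =>
          simp only [Bool.and_eq_true] at hg
          have hab : a ≤ b := Nat.le_of_ble_eq_true hg.1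
          have hbn : b < C.n := Nat.le_of_ble_eq_true hg.2
          rw [cond_true, ih, show addV C.mask m (unit (Cert.tnum b a)) =
            C.add m (unit (Cert.tnum b a)) from rfl, hadd, hunit (htlt b a hab hbn),
            List.reverse_cons, List.append_assoc, List.singleton_append, ev_append, ev_append,
            ev_append, ev_cons, ev_cons, ← mul_assoc (Y b), hvt b a hab hbn,
            mul_assoc (ev Y (C.rule b a)), hcc (v _) (ev Y rest)]
          simp only [Subgroup.coe_mul, mul_assoc]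
          rw [hcc (χ m)]
        | false =>
          rw [cond_false, ih]
          simp [List.append_assoc]
  have hnorm : ∀ w, ev Y (C.norm w).1 * (χ (C.norm w).2 : Γ) = ev Y w := fun w => by
    rw [Cert.norm, hcoll, hzero]; simp
  have hassoc : ∀ t, χ (C.assocEq t).1 = χ (C.assocEq t).2 := by
    rintro ⟨c, b, a⟩
    rw [Cert.assocEq]
    cases hg : Nat.ble a b && Nat.ble b c && Nat.blt c C.n &&
      (C.norm (C.rule c b ++ [a])).1 == (C.norm (c :: C.rule b a)).1 with
    | true =>
      simp only [Bool.and_eq_true, beq_iff_eq] at hg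
      have hab : a ≤ b := Nat.le_of_ble_eq_true hg.1.1.1
      have hbc : b ≤ c := Nat.le_of_ble_eq_true hg.1.1.2
      have hcn : c < C.n := Nat.le_of_ble_eq_true hg.1.2
      rw [cond_true]
      dsimp only
      rw [hadd, hadd, hunit (htlt c b hbc hcn), hunit (htlt b a hab (by omega))]
      refine Subtype.ext ?_
      apply mul_left_cancel (a := ev Y (C.norm (C.rule c b ++ [a])).1)
      conv_rhs => rw [hg.2]
      rw [Subgroup.coe_mul, Subgroup.coe_mul, ← mul_assoc, ← mul_assoc, hnorm, hnorm, ev_append,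
        ev_cons, ev_nil, mul_one, mul_assoc, ← hcc (v _) (Y a), ← mul_assoc, ← hvt c b hbc hcn,
        ev_cons, mul_assoc (Y c) (ev Y (C.rule b a)), ← hvt b a hab (by omega), mul_assoc]
    | false => simp
  have hauxSum : ∀ f, f < C.fus.length → ∀ w : List ℕ,
      (∀ s ∈ w, s < C.n ∧ C.img f s < C.n) →
      Gf f * ev Y w * (Gf f)⁻¹ = ev Y (w.map (C.img f)) * (χ (C.auxSum f w) : Γ) := by
    intro f hf w hw
    induction w with
    | nil => simp [Cert.auxSum, hzero]
    | cons s w ih =>
      have hs := hw s List.mem_cons_self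
      rw [List.map_cons, ev_cons, ev_cons, Cert.auxSum, hadd, hunit (halt f s hf hs.1),
        show Gf f * (Y s * ev Y w) * (Gf f)⁻¹ =
          (Gf f * Y s * (Gf f)⁻¹) * (Gf f * ev Y w * (Gf f)⁻¹) by group,
        hvf f s hf hs.1 hs.2, ih fun a ha => hw a (List.mem_cons_of_mem _ ha), Subgroup.coe_mul]
      simp only [mul_assoc]
      congr 1
      rw [← mul_assoc, hcc (v _), mul_assoc]
  have hfusion : ∀ t, χ (C.fusionEq t).1 = χ (C.fusionEq t).2 := by
    rintro ⟨f, b, a⟩
    rw [Cert.fusionEq]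
    cases hg : Nat.ble a b && Nat.blt b C.n && Nat.blt f C.fus.length &&
      ([b, a] ++ C.rule b a).all (fun s => Nat.blt s C.n && Nat.blt (C.img f s) C.n) &&
      (C.norm ([b, a].map (C.img f))).1 == (C.norm ((C.rule b a).map (C.img f))).1 with
    | true =>
      simp only [Bool.and_eq_true, beq_iff_eq, List.all_eq_true, List.mem_append] at hg
      obtain ⟨⟨⟨⟨h1, h2⟩, h3⟩, h4⟩, h5⟩ := hg
      have hab : a ≤ b := Nat.le_of_ble_eq_true h1
      have hb : b < C.n := Nat.le_of_ble_eq_true h2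
      have hf : f < C.fus.length := Nat.le_of_ble_eq_true h3
      have hlt : ∀ s, s ∈ [b, a] ∨ s ∈ C.rule b a → s < C.n ∧ C.img f s < C.n :=
        fun s hs => (h4 s hs).imp Nat.le_of_ble_eq_true Nat.le_of_ble_eq_true
      rw [cond_true]
      dsimp only
      rw [hadd, hadd, hadd, hunit (htlt b a hab hb)]
      refine Subtype.ext ?_
      apply mul_left_cancel (a := ev Y (C.norm ([b, a].map (C.img f))).1)
      conv_rhs => rw [h5]
      simp only [Subgroup.coe_mul]
      rw [← mul_assoc, ← mul_assoc, hnorm, hnorm, ← hauxSum f hf _ (fun s hs => hlt s (Or.inl hs)),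
        ← mul_assoc, ← hauxSum f hf _ (fun s hs => hlt s (Or.inr hs)), ev_cons, ev_cons, ev_nil,
        mul_one, hvt b a hab hb]
      rw [show Gf f * (ev Y (C.rule b a) * (v (Cert.tnum b a) : Γ)) * (Gf f)⁻¹ =
        Gf f * ev Y (C.rule b a) * ((v (Cert.tnum b a) : Γ) * (Gf f)⁻¹) by group,
        hcc (v _) (Gf f)⁻¹, ← mul_assoc]
    | false => simp
  rw [Cert.eqsCheck, beq_iff_eq] at heqs
  have hev : ∀ e ∈ C.eqs, χ e.1 = χ e.2 := by
    rw [← heqs]
    intro e he
    simp only [List.mem_append, List.mem_map] at he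
    rcases he with ⟨t, -, rfl⟩ | ⟨t, -, rfl⟩
    · exact hassoc t
    · exact hfusion t
  have hcomb : ∀ L, χ (C.comb L).1 = χ (C.comb L).2 := by
    intro L
    induction L with
    | nil => rfl
    | cons t L ih =>
      rw [Cert.comb]
      dsimp only
      rw [hadd, hadd, hscale, hscale, ih]
      by_cases h : t.2 < C.eqs.length
      · rw [List.getD_eq_getElem _ _ h, hev _ (List.getElem_mem h)]
      · rw [List.getD_eq_default _ _ (Nat.le_of_not_lt h)]
  let Y' : ℕ → Γ := fun s => Y s * (χ (C.adj.getD s 0) : Γ)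
  have hY'ev : ∀ w, ev Y' w = ev Y w * (χ (C.adjSum w) : Γ) := by
    intro w
    induction w with
    | nil => simp [Cert.adjSum, hzero]
    | cons s w ih =>
      rw [ev_cons, ev_cons, ih, Cert.adjSum, hadd, Subgroup.coe_mul]
      simp only [Y', mul_assoc]
      congr 1
      rw [← mul_assoc, hcc (χ _), mul_assoc]
  have hY' : ∀ i, σ (Y' i) = x i := fun i => by
    have : σ (χ (C.adj.getD i 0) : Γ) = 1 := (χ (C.adj.getD i 0)).2
    simp only [Y', map_mul, this, mul_one, hY]
  set D : σ.ker := χ C.dv with hDdef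
  set E : σ.ker := χ dv2 with hEdef
  have hsq : ∀ z : σ.ker, z * z = 1 := fun z => by
    have := hexp z z.2
    rw [hk1, pow_one, pow_two] at this
    exact Subtype.ext this
  have hinv : ∀ z : σ.ker, z⁻¹ = z := fun z => inv_eq_of_mul_eq_one_right (hsq z)
  let P : Set σ.ker := {z | z = 1 ∨ z = D ∨ z = E ∨ z = D * E}
  have hPmul : ∀ a b, a ∈ P → b ∈ P → a * b ∈ P := by
    have l1 : ∀ a b : σ.ker, a * (a * b) = b := fun a b => by rw [← mul_assoc, hsq, one_mul]
    have l2 : ∀ a b : σ.ker, b * (a * b) = a := fun a b => by rw [mul_left_comm, hsq, mul_one]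
    simp only [P, Set.mem_setOf_eq]
    rintro a b (rfl | rfl | rfl | rfl) (rfl | rfl | rfl | rfl) <;>
      simp [hsq, l1, l2, mul_assoc, mul_comm E D]
  let S : Subgroup Γ :=
    Subgroup.map σ.ker.subtype
      { carrier := P
        one_mem' := Or.inl rfl
        mul_mem' := fun {a b} ha hb => hPmul a b ha hb
        inv_mem' := fun {a} ha => by rwa [hinv] }
  refine ⟨D, E, D.2, E.2, ?_⟩
  have htail : ∀ r ∈ C.rules, (ev Y' r.2)⁻¹ * ev Y' r.1 ∈ S := by
    intro r hr
    simp only [Cert.rules, List.mem_flatMap, List.mem_map, List.mem_range] at hr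
    obtain ⟨b, hb, a, ha, rfl⟩ := hr
    have hab : a ≤ b := by omega
    have hc := congrArg χ (Nat.eq_of_beq_eq_true (hruleCheck b hb a ha))
    rw [hadd, hadd, hscale, hscale, hadd, hadd, hadd, hcomb, mul_left_inj, hunit (htlt b a hab hb),
      hq1, pow_one, pow_one] at hc
    refine ⟨(χ (C.adjSum (C.rule b a)))⁻¹ * (v (Cert.tnum b a) * χ (C.adjSum [b, a])), ?_, ?_⟩
    · show _ ∈ P
      rw [hc, inv_mul_cancel_left]
      cases (Cert.comboAt _ b a).1 <;> cases (Cert2.bit _ b a) <;>
        simp [P, hzero, D, E]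
    · rw [hY'ev, hY'ev, ev_cons, ev_cons, ev_nil, mul_one, hvt b a hab hb]
      simp only [Subgroup.coe_subtype, Subgroup.coe_mul, Subgroup.coe_inv, mul_inv_rev, mul_assoc,
        inv_mul_cancel_left]
  intro u hu
  have hu2 : ∃ e, orderOf u = 2 ^ e :=
    ⟨_, ((Nat.dvd_prime_pow Nat.prime_two).1 (orderOf_dvd_of_pow_eq_one (hexp u hu))).choose_spec.2⟩
  obtain ⟨w, hw, rfl⟩ := ker_le_of_tails σ hσ S (Subgroup.map_subtype_le _) Y' hshape htail
    (by simpa only [hY'] using hcard) (by simpa only [hY'] using hindex) hu hu2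
  rcases hw with rfl | rfl | rfl | rfl
  · exact Or.inl rfl
  · exact Or.inr (Or.inl rfl)
  · exact Or.inr (Or.inr (Or.inl rfl))
  · exact Or.inr (Or.inr (Or.inr rfl))

end

end CfsgLib.Schur.Tail
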